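import Cfsg.Prelude.Def_LieExceptional
import Cfsg.Agent.Lib.Char.Burnside
import Cfsg.Agent.Lib.CN.Main
import Mathlib.GroupTheory.Sylow
import Mathlib.GroupTheory.Transfer
import Mathlib.GroupTheory.Nilpotent

/-!
# Groups whose automorphism group has four orbits
-/

set_option autoImplicit false

namespace Cfsg.Agent.FourOrbits

universe u

variable {G : Type u} [Group G] [Finite G]

/-- What the orbit hypothesis gives. -/
structure Data (G : Type u) [Group G] : Prop where
  not_solvable : ¬ Group.IsSolvable G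
  prime_order : ∀ g : G, g ≠ 1 → (orderOf g).Prime
  conj_aut : ∀ x y : G, orderOf x = orderOf y → ∃ φ : MulAut G, φ x = y
  card_primes : (Nat.card G).primeFactors.card = 3

theorem solvable_of_primes (n : ℕ) (hn : Nat.card G = n) (h : n.primeFactors.card ≤ 2) :
    Group.IsSolvable G := by
  have hn0 : n ≠ 0 := hn ▸ Nat.card_pos.ne'
  obtain ⟨p, q, hp, hq, hsub⟩ : ∃ p q : ℕ, p.Prime ∧ q.Prime ∧ n.primeFactors ⊆ {p, q} := by
    rcases Nat.lt_or_ge n.primeFactors.card 1 with h0 | h1
    · exact ⟨2, 2, Nat.prime_two, Nat.prime_two, by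
        rw [Finset.card_eq_zero.mp (Nat.lt_one_iff.mp h0)]; simp⟩
    rcases Nat.lt_or_ge n.primeFactors.card 2 with h2 | h2
    · obtain ⟨p, hp⟩ := Finset.card_eq_one.mp (by omega : n.primeFactors.card = 1)
      have hpp : p.Prime := Nat.prime_of_mem_primeFactors (n := n) (by simp [hp])
      exact ⟨p, p, hpp, hpp, by simp [hp]⟩
    · obtain ⟨p, q, -, hpq⟩ := Finset.card_eq_two.mp (by omega : n.primeFactors.card = 2)
      exact ⟨p, q, Nat.prime_of_mem_primeFactors (n := n) (by simp [hpq]),
        Nat.prime_of_mem_primeFactors (n := n) (by simp [hpq]), hpq.le⟩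
  have hf : ∃ a b, n = p ^ a * q ^ b := by
    by_cases hpq : p = q
    · subst hpq
      refine ⟨n.factorization p, 0, ?_⟩
      conv_lhs => rw [← Nat.factorization_prod_pow_eq_self hn0]
      rw [pow_zero, mul_one, Finsupp.prod_of_support_subset _
        (s := {p}) (by simpa using hsub) _ (fun i _ => pow_zero i), Finset.prod_singleton]
    · refine ⟨n.factorization p, n.factorization q, ?_⟩
      conv_lhs => rw [← Nat.factorization_prod_pow_eq_self hn0]
      rw [Finsupp.prod_of_support_subset _ (s := {p, q}) (by simpa using hsub) _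
        (fun i _ => pow_zero i), Finset.prod_pair hpq]
  obtain ⟨a, b, hab⟩ := hf
  exact Cfsg.Agent.Char.isSolvable_of_card_pq p q hp hq _ G (hn.trans hab) ⟨a, b, rfl⟩

theorem orderOf_mem_primeFactors {g : G} (hg : (orderOf g).Prime) :
    orderOf g ∈ (Nat.card G).primeFactors :=
  Nat.mem_primeFactors.mpr ⟨hg, orderOf_dvd_natCard g, Nat.card_pos.ne'⟩

theorem exists_of_mem_primeFactors {p : ℕ} (hp : p ∈ (Nat.card G).primeFactors) :
    ∃ g : G, orderOf g = p := by
  haveI : Fact p.Prime := ⟨Nat.prime_of_mem_primeFactors hp⟩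
  exact exists_prime_orderOf_dvd_card' p (Nat.dvd_of_mem_primeFactors hp)

theorem data (hns : ¬ Group.IsSolvable G)
    (h4 : Nat.card (MulAction.orbitRel.Quotient (MulAut G) G) = 4) : Data G := by
  classical
  let ord : MulAction.orbitRel.Quotient (MulAut G) G → ℕ := Quotient.lift (fun g => orderOf g)
    (by
      rintro a b ⟨φ, rfl⟩
      exact φ.orderOf_eq b)
  haveI : Fintype (MulAction.orbitRel.Quotient (MulAut G) G) := Fintype.ofFinite _
  rw [Nat.card_eq_fintype_card] at h4
  have h3 : 3 ≤ (Nat.card G).primeFactors.card := by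
    by_contra h
    exact hns (solvable_of_primes _ rfl (by omega))
  have hsub : insert 1 (Nat.card G).primeFactors ⊆ Finset.univ.image ord := by
    intro n hn
    rcases Finset.mem_insert.mp hn with rfl | hn
    · exact Finset.mem_image.mpr ⟨Quotient.mk'' (1 : G), Finset.mem_univ _, orderOf_one⟩
    · obtain ⟨g, hg⟩ := exists_of_mem_primeFactors hn
      exact Finset.mem_image.mpr ⟨Quotient.mk'' g, Finset.mem_univ _, hg⟩
  have hc1 : (insert 1 (Nat.card G).primeFactors).card = (Nat.card G).primeFactors.card + 1 :=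
    Finset.card_insert_of_notMem fun h => Nat.not_prime_one (Nat.prime_of_mem_primeFactors h)
  have hle : (Finset.univ.image ord).card ≤ 4 := h4 ▸ (Finset.card_image_le.trans_eq Finset.card_univ)
  have hc2 := Finset.card_le_card hsub
  have himg : insert 1 (Nat.card G).primeFactors = Finset.univ.image ord :=
    Finset.eq_of_subset_of_card_le hsub (by omega)
  have hinj : Function.Injective ord := fun a b hab =>
    Finset.injOn_of_card_image_eq (by rw [Finset.card_univ]; omega) (Finset.mem_univ a)
      (Finset.mem_univ b) hab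
  refine ⟨hns, fun g hg => ?_, fun x y hxy => ?_, by omega⟩
  · have : orderOf g ∈ insert 1 (Nat.card G).primeFactors :=
      himg ▸ Finset.mem_image.mpr ⟨Quotient.mk'' g, Finset.mem_univ _, rfl⟩
    rcases Finset.mem_insert.mp this with h | h
    · exact absurd (orderOf_eq_one_iff.mp h) hg
    · exact Nat.prime_of_mem_primeFactors h
  · have := hinj (a₁ := Quotient.mk'' y) (a₂ := Quotient.mk'' x) hxy.symm
    exact MulAction.mem_orbit_iff.mp (Quotient.eq''.mp this)

variable (D : Data G)

include D in
theorem cent_pgroup {p : ℕ} {g : G} (hp : p.Prime) (hg : orderOf g = p) :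
    IsPGroup p (Subgroup.centralizer ({g} : Set G)) := by
  intro h
  by_cases h1 : (h : G) = 1
  · exact ⟨0, Subtype.ext (by simpa using h1)⟩
  refine ⟨1, Subtype.ext ?_⟩
  have hh := D.prime_order (h : G) h1
  suffices orderOf (h : G) = p by
    rw [Subgroup.coe_pow, pow_one, ← this, pow_orderOf_eq_one]; rfl
  by_contra hne
  have hc : Commute g (h : G) := (Subgroup.mem_centralizer_singleton_iff.mp h.2).symm
  have ho := hc.orderOf_mul_eq_mul_orderOf_of_coprime
    (by rw [hg]; exact (Nat.coprime_primes hp hh).mpr (Ne.symm hne))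
  have hne1 : g * (h : G) ≠ 1 := fun e => by
    rw [e, orderOf_one, hg] at ho
    exact absurd (Nat.eq_one_of_mul_eq_one_right ho.symm) hp.one_lt.ne'
  have := D.prime_order _ hne1
  rw [ho, hg] at this
  exact Nat.not_prime_mul hp.one_lt.ne' hh.one_lt.ne' this

include D in
theorem two_mem : 2 ∈ (Nat.card G).primeFactors := by
  by_contra h2
  refine D.not_solvable (Cfsg.Agent.CN.solvable _ G rfl ?_ fun g hg => ?_)
  · rw [Nat.odd_iff, ← Nat.two_dvd_ne_zero]
    exact fun h => h2 (Nat.mem_primeFactors.mpr ⟨Nat.prime_two, h, Nat.card_pos.ne'⟩)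
  · haveI : Fact (orderOf g).Prime := ⟨D.prime_order g hg⟩
    exact (cent_pgroup D (D.prime_order g hg) rfl).isNilpotent

include D in
/-- A proper subgroup invariant under all automorphisms is trivial. -/
theorem eq_bot_of_invariant (N : Subgroup G) (hN : ∀ φ : MulAut G, ∀ g ∈ N, φ g ∈ N)
    (hne : N ≠ ⊤) : N = ⊥ := by
  by_contra hbot
  haveI hn : N.Normal := ⟨fun n hn g => hN (MulAut.conj g) n hn⟩
  have hall : ∀ {g h : G}, g ∈ N → orderOf g = orderOf h → h ∈ N := fun hg he => by
    obtain ⟨φ, rfl⟩ := D.conj_aut _ _ he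
    exact hN φ _ hg
  have hsubN : (Nat.card N).primeFactors ⊆ (Nat.card G).primeFactors :=
    Nat.primeFactors_mono N.card_subgroup_dvd_card Nat.card_pos.ne'
  obtain ⟨r, hr, hrN⟩ : ∃ r ∈ (Nat.card G).primeFactors, r ∉ (Nat.card N).primeFactors := by
    by_contra h
    push Not at h
    refine hne (eq_top_iff.mpr fun g _ => ?_)
    by_cases hg : g = 1
    · subst hg; exact N.one_mem
    obtain ⟨n, hn'⟩ := exists_of_mem_primeFactors (h _ (orderOf_mem_primeFactors (D.prime_order g hg)))
    exact hall n.2 (by rw [Subgroup.orderOf_coe, hn'])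
  have h3 := D.card_primes
  have hNs : Group.IsSolvable N := solvable_of_primes _ rfl (by
    have := Finset.card_lt_card ((Finset.ssubset_iff_of_subset hsubN).mpr ⟨r, hr, hrN⟩)
    omega)
  obtain ⟨n, hnN, hn1⟩ := N.ne_bot_iff_exists_ne_one.mp hbot |>.elim fun x hx =>
    (⟨x, x.2, fun e => hx (Subtype.ext e)⟩ : ∃ n, n ∈ N ∧ n ≠ (1 : G))
  have hq : (Nat.card (G ⧸ N)).primeFactors ⊆ (Nat.card G).primeFactors.erase (orderOf n) := by
    intro t ht
    obtain ⟨x, hx⟩ := exists_of_mem_primeFactors (G := G ⧸ N) ht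
    obtain ⟨g, rfl⟩ := QuotientGroup.mk_surjective x
    have ht' := Nat.prime_of_mem_primeFactors ht
    have hg1 : g ≠ 1 := fun e => by
      rw [e, QuotientGroup.mk_one, orderOf_one] at hx
      exact ht'.one_lt.ne hx
    have hdvd : t ∣ orderOf g := hx ▸ orderOf_map_dvd (QuotientGroup.mk' N) g
    have hgo : orderOf g = t := ((Nat.prime_dvd_prime_iff_eq ht' (D.prime_order g hg1)).mp hdvd).symm
    refine Finset.mem_erase.mpr ⟨fun e => ?_, hgo ▸ orderOf_mem_primeFactors (D.prime_order g hg1)⟩
    rw [(QuotientGroup.eq_one_iff g).mpr (hall hnN (e.symm.trans hgo.symm)), orderOf_one] at hx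
    exact ht'.one_lt.ne hx
  haveI := hNs
  haveI : Group.IsSolvable (G ⧸ N) := solvable_of_primes _ rfl (by
    have h1 := Finset.card_le_card hq
    rw [Finset.card_erase_of_mem (orderOf_mem_primeFactors (D.prime_order n hn1))] at h1
    omega)
  exact D.not_solvable (Group.isSolvable_of_ker_le_range N.subtype (QuotientGroup.mk' N) (by simp))

include D in
theorem commutator_eq_top : commutator G = ⊤ := by
  by_contra h
  have hb := eq_bot_of_invariant D (commutator G) (fun φ g hg =>
    (Subgroup.Characteristic.fixed (H := commutator G) inferInstance φ ▸ hg :)) h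
  exact D.not_solvable (Group.isSolvable_of_comm fun a b =>
    commutatorElement_eq_one_iff_mul_comm.mp (Subgroup.mem_bot.mp
      (hb ▸ Subgroup.commutator_mem_commutator (Subgroup.mem_top a) (Subgroup.mem_top b))))

end Cfsg.Agent.FourOrbits
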