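import Cfsg.Agent.Lib.FourOrbits.Invol
import Mathlib.Data.Fintype.CardEmbedding

/-!
# Four orbits: the order 504 is impossible
-/

set_option autoImplicit false

namespace Cfsg.Agent.FourOrbits

universe u

variable {G : Type u} [Group G] [Finite G] (D : Data G)

include D in
theorem fixed_three (T : Sylow 2 G) (hT : Nat.card (T : Subgroup G) = 8) (hw : wn T = 7)
    (hG : Nat.card G = 504) {g : G} (hg : g ≠ 1) {A B C : Sylow 2 G} (hAB : A ≠ B) (hAC : A ≠ C)
    (hBC : B ≠ C) (hA : g • A = A) (hB : g • B = B) (hC : g • C = C) : False := by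
  haveI : Fact (Nat.Prime 2) := ⟨Nat.prime_two⟩
  have hn : Nat.card (Sylow 2 G) = 9 := by
    have := card_sylow_mul T
    rw [hT, hw, hG] at this
    omega
  have hcN : ∀ Q : Sylow 2 G, Nat.card (Subgroup.normalizer ((Q : Subgroup G) : Set G)) = 56 := fun Q => by
    have h := (Subgroup.normalizer ((Q : Subgroup G) : Set G)).card_mul_index
    have hi : (Subgroup.normalizer ((Q : Subgroup G) : Set G)).index = 9 :=
      (Q.card_eq_index_normalizer.symm.trans hn)
    rw [hG, hi] at h
    omega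
  have hmem : ∀ {Q : Sylow 2 G}, g • Q = Q → g ∈ Subgroup.normalizer ((Q : Subgroup G) : Set G) :=
    fun h => Sylow.smul_eq_iff_mem_normalizer.mp h
  have hdvd : orderOf g ∣ 56 := hcN A ▸ Subgroup.orderOf_dvd_natCard _ (hmem hA)
  have hpr := D.prime_order g hg
  rcases (show orderOf g = 2 ∨ orderOf g = 7 by
      have h56 : orderOf g ∣ 2 ^ 3 * 7 := hdvd
      rcases hpr.dvd_mul.mp h56 with h | h
      · exact Or.inl ((Nat.prime_dvd_prime_iff_eq hpr Nat.prime_two).mp (hpr.dvd_of_dvd_pow h))
      · exact Or.inr ((Nat.prime_dvd_prime_iff_eq hpr (by norm_num)).mp h)) with h | h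
  · have hin : ∀ {Q : Sylow 2 G}, g • Q = Q → (Q : Subgroup G) = Subgroup.centralizer ({g} : Set G) := by
      intro Q hQ
      have hp : IsPGroup 2 (Subgroup.zpowers g) :=
        IsPGroup.of_card (n := 1) (by rw [Nat.card_zpowers, h, pow_one])
      exact two_cent D Q ((hp.inf_normalizer_sylow Q ▸ ⟨Subgroup.mem_zpowers g, hmem hQ⟩ :
        g ∈ Subgroup.zpowers g ⊓ (Q : Subgroup G))).2 hg
    exact hAB (Sylow.ext ((hin hA).trans (hin hB).symm))
  · haveI : Fact (Nat.Prime 7) := ⟨by norm_num⟩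
    have hP : IsPGroup 7 (Subgroup.zpowers g) :=
      IsPGroup.of_card (n := 1) (by rw [Nat.card_zpowers, h, pow_one])
    have hmod := hP.card_modEq_card_fixedPoints (Sylow 2 G)
    rw [hn] at hmod
    set F := MulAction.fixedPoints (Subgroup.zpowers g) (Sylow 2 G) with hF
    have hmemF : ∀ {Q : Sylow 2 G}, g • Q = Q → Q ∈ F := fun {Q} hQ x => by
      obtain ⟨k, hk⟩ := Subgroup.mem_zpowers_iff.mp x.2
      show (x : G) • Q = Q
      rw [← hk]
      exact MulAction.mem_stabilizer_iff.mp (Subgroup.zpow_mem _ (MulAction.mem_stabilizer_iff.mpr hQ) k)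
    have h3 : 3 ≤ F.ncard := by
      calc 3 = ({A, B, C} : Set (Sylow 2 G)).ncard :=
            (Set.ncard_eq_three.mpr ⟨A, B, C, hAB, hAC, hBC, rfl⟩).symm
        _ ≤ F.ncard := Set.ncard_le_ncard (by
            rintro Q (rfl | rfl | rfl)
            · exact hmemF hA
            · exact hmemF hB
            · exact hmemF hC) (Set.toFinite _)
    have h9 : F.ncard ≤ 9 := hn ▸ Set.ncard_le_card F
    rw [Nat.card_coe_set_eq, Nat.ModEq] at hmod
    have hall : F = Set.univ := Set.eq_of_subset_of_ncard_le (Set.subset_univ _)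
      (by rw [Set.ncard_univ, hn]; omega) (Set.toFinite _)
    let K : Subgroup G := (MulAction.toPermHom G (Sylow 2 G)).ker
    have hK : ∀ x : G, x ∈ K ↔ ∀ Q : Sylow 2 G, x ∈ Subgroup.normalizer ((Q : Subgroup G) : Set G) := by
      intro x
      refine ⟨fun hx Q => Sylow.smul_eq_iff_mem_normalizer.mp ?_, fun hx => Equiv.ext fun Q => ?_⟩
      · exact Equiv.Perm.ext_iff.mp hx Q
      · exact Sylow.smul_eq_iff_mem_normalizer.mpr (hx Q)
    have hgK : g ∈ K := Equiv.ext fun Q => by
      have : Q ∈ F := hall ▸ Set.mem_univ Q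
      exact this ⟨g, Subgroup.mem_zpowers g⟩
    have hKt : K ≠ ⊤ := fun e => by
      have h1 := Subgroup.card_dvd_of_le (show (⊤ : Subgroup G) ≤ Subgroup.normalizer ((A : Subgroup G) : Set G)
        from fun x _ => (hK x).mp (e ▸ Subgroup.mem_top x) A)
      rw [Subgroup.card_top, hcN A, hG] at h1
      norm_num at h1
    have hKb := eq_bot_of_invariant D K (fun φ x hx => (hK _).mpr fun Q => ?_) hKt
    · exact hg (Subgroup.mem_bot.mp (hKb ▸ hgK))
    · have hc : Nat.card ((Q : Subgroup G).map φ.symm.toMonoidHom) = 2 ^ (Nat.card G).factorization 2 := by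
        rw [Subgroup.card_map_of_injective φ.symm.injective, Q.card_eq_multiplicity]
      have h1 := (hK x).mp hx (Sylow.ofCard _ hc)
      rw [Subgroup.mem_normalizer_iff] at h1 ⊢
      intro z
      have h2 := h1 (φ.symm z)
      simp only [Sylow.coe_ofCard] at h2
      rw [show x * φ.symm z * x⁻¹ = φ.symm (φ x * z * (φ x)⁻¹) by simp] at h2
      have hm : ∀ y : G, φ.symm y ∈ (Q : Subgroup G).map φ.symm.toMonoidHom ↔ y ∈ (Q : Subgroup G) :=
        fun y => ⟨fun ⟨w, hw, he⟩ => φ.symm.injective he ▸ hw, fun hy => ⟨y, hy, rfl⟩⟩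
      rw [hm, hm] at h2
      exact h2

include D in
theorem not_504 (T : Sylow 2 G) (hT : Nat.card (T : Subgroup G) = 8) (hw : wn T = 7)
    (hG : Nat.card G = 504) [Fact (Nat.Prime 7)] (h7 : Nat.card {g : G // orderOf g = 7} ≤ 216) :
    False := by
  classical
  haveI : Fact (Nat.Prime 2) := ⟨Nat.prime_two⟩
  haveI := Fintype.ofFinite G
  haveI := Fintype.ofFinite (Sylow 2 G)
  have hn : Fintype.card (Sylow 2 G) = 9 := by
    have := card_sylow_mul T
    rw [hT, hw, hG] at this
    rw [← Nat.card_eq_fintype_card]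
    omega
  obtain ⟨b⟩ : Nonempty (Fin 3 ↪ Sylow 2 G) :=
    Function.Embedding.nonempty_of_card_le (by rw [Fintype.card_fin, hn]; omega)
  let act : G → (Fin 3 ↪ Sylow 2 G) := fun g => b.trans (MulAction.toPerm g).toEmbedding
  have hinj : Function.Injective act := by
    intro g h hgh
    by_contra hne
    have hfix : ∀ i, (h⁻¹ * g) • b i = b i := fun i => by
      have hi : g • b i = h • b i := congrArg (fun (e : Fin 3 ↪ Sylow 2 G) => e i) hgh
      rw [mul_smul, hi, inv_smul_smul]
    exact fixed_three D T hT hw hG (fun e => hne (inv_mul_eq_one.mp e).symm)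
      (b.injective.ne (show (0 : Fin 3) ≠ 1 by decide)) (b.injective.ne (show (0 : Fin 3) ≠ 2 by decide))
      (b.injective.ne (show (1 : Fin 3) ≠ 2 by decide)) (hfix 0) (hfix 1) (hfix 2)
  have hbij : Function.Bijective act := (Fintype.bijective_iff_injective_and_card act).mpr ⟨hinj, by
    rw [← Nat.card_eq_fintype_card, hG, Fintype.card_embedding_eq, Fintype.card_fin, hn]; rfl⟩
  have htrans : ∀ e f : Fin 3 ↪ Sylow 2 G, ∃ g : G, ∀ i, g • e i = f i := fun e f => by
    obtain ⟨g, hg⟩ := hbij.2 f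
    obtain ⟨h, hh⟩ := hbij.2 e
    refine ⟨g * h⁻¹, fun i => ?_⟩
    rw [← hh, ← hg]
    show (g * h⁻¹) • (h • b i) = g • b i
    rw [mul_smul, inv_smul_smul]
  have hpath : ∀ q : Fin 4 ↪ Sylow 2 G, ∃ x : {g : G // orderOf g = 7} × Sylow 2 G,
      q 0 = x.2 ∧ q 1 = (x.1 : G) • q 0 ∧ q 2 = (x.1 : G) • q 1 ∧ q 3 = (x.1 : G) • q 2 := by
    intro q
    obtain ⟨g, hg⟩ := htrans (Fin.castSuccEmb.trans q) ((Fin.succEmb 3).trans q)
    have e0 : g • q 0 = q 1 := hg 0
    have e1 : g • q 1 = q 2 := hg 1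
    have e2 : g • q 2 = q 3 := hg 2
    have hg1 : g ≠ 1 := fun e => by
      rw [e, one_smul] at e0
      exact absurd (q.injective e0) (by decide)
    have hp := D.prime_order g hg1
    have h504 : orderOf g ∣ 2 ^ 3 * 3 ^ 2 * 7 := by
      have := orderOf_dvd_natCard g
      rwa [hG] at this
    have h7' : orderOf g = 7 := by
      rcases hp.dvd_mul.mp h504 with h | h
      · exfalso
        rcases hp.dvd_mul.mp h with h | h
        · have h2 := (Nat.prime_dvd_prime_iff_eq hp Nat.prime_two).mp (hp.dvd_of_dvd_pow h)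
          have : g • g • q 0 = q 0 := by
            have hgp := pow_orderOf_eq_one g
            rw [h2, pow_two] at hgp
            rw [smul_smul, hgp, one_smul]
          rw [e0, e1] at this
          exact absurd (q.injective this) (by decide)
        · have h3 := (Nat.prime_dvd_prime_iff_eq hp Nat.prime_three).mp (hp.dvd_of_dvd_pow h)
          have : g • g • g • q 0 = q 0 := by
            have hgp := pow_orderOf_eq_one g
            rw [h3, pow_succ, pow_two] at hgp
            rw [smul_smul, smul_smul, hgp, one_smul]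
          rw [e0, e1, e2] at this
          exact absurd (q.injective this) (by decide)
      · exact (Nat.prime_dvd_prime_iff_eq hp (by norm_num)).mp h
    exact ⟨(⟨g, h7'⟩, q 0), rfl, e0.symm, e1.symm, e2.symm⟩
  choose f hf using hpath
  have hfinj : Function.Injective f := by
    intro q q' he
    obtain ⟨a0, a1, a2, a3⟩ := hf q
    obtain ⟨b0, b1, b2, b3⟩ := hf q'
    rw [he] at a0 a1 a2 a3
    have c0 : q 0 = q' 0 := a0.trans b0.symm
    have c1 : q 1 = q' 1 := by rw [a1, b1, c0]
    have c2 : q 2 = q' 2 := by rw [a2, b2, c1]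
    have c3 : q 3 = q' 3 := by rw [a3, b3, c2]
    ext i : 1
    fin_cases i
    exacts [c0, c1, c2, c3]
  have hle := Fintype.card_le_of_injective f hfinj
  rw [Fintype.card_embedding_eq, Fintype.card_fin, Fintype.card_prod, hn,
    show (9 : ℕ).descFactorial 4 = 3024 from rfl, ← Nat.card_eq_fintype_card] at hle
  omega

end Cfsg.Agent.FourOrbits
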