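import Cfsg.Agent.Lib.FourOrbits.Sylow
import Mathlib.Algebra.BigOperators.Group.Finset.Sigma

/-!
# Four orbits: the normalizer of a Sylow 2-subgroup
-/

set_option autoImplicit false

namespace Cfsg.Agent.FourOrbits

universe u

variable {G : Type u} [Group G] [Finite G] (D : Data G)

include D in
theorem two_dvd : 2 ∣ Nat.card G := Nat.dvd_of_mem_primeFactors (two_mem D)

include D in
theorem orderOf_two {x : G} (hx : x ≠ 1) (T : Sylow 2 G) (hT : x ∈ (T : Subgroup G)) : orderOf x = 2 := by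
  obtain ⟨k, hk⟩ := IsPGroup.iff_orderOf.mp T.isPGroup' ⟨x, hT⟩
  rw [← Subgroup.orderOf_coe] at hk
  have hpr := D.prime_order _ hx
  change orderOf x = 2 ^ k at hk
  rw [hk] at hpr
  rw [hk, hpr.eq_one_of_pow, pow_one]

include D in
theorem sylow_two_comm (T : Sylow 2 G) : IsMulCommutative (T : Subgroup G) := by
  have hsq : ∀ x : (T : Subgroup G), x⁻¹ = x := fun x => Subtype.ext <| by
    by_cases hx : (x : G) = 1
    · simp [hx]
    · refine inv_eq_of_mul_eq_one_right ?_
      have h := pow_orderOf_eq_one (x : G)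
      rwa [orderOf_two D hx T x.2, pow_two] at h
  exact ⟨⟨fun a b => by rw [← hsq (a * b), mul_inv_rev, hsq a, hsq b]⟩⟩

include D in
theorem two_cent (T : Sylow 2 G) {x : G} (hx : x ∈ (T : Subgroup G)) (hx1 : x ≠ 1) :
    (T : Subgroup G) = Subgroup.centralizer ({x} : Set G) := by
  haveI := sylow_two_comm D T
  exact sylow_eq D T (orderOf_two D hx1 T hx) fun y hy =>
    congrArg Subtype.val (mul_comm' (⟨y, hy⟩ : (T : Subgroup G)) ⟨x, hx⟩)

theorem commute_of_not_isConj {s t : G} (hs : s * s = 1) (ht : t * t = 1)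
    (hpr : ∀ g : G, g ≠ 1 → (orderOf g).Prime) (h : ¬ IsConj s t) : s * t = t * s := by
  have hinv : s⁻¹ = s := inv_eq_of_mul_eq_one_right hs
  have htinv : t⁻¹ = t := inv_eq_of_mul_eq_one_right ht
  have h1 : s * t ≠ 1 := fun e => h (by rw [show t = s⁻¹ from (inv_eq_of_mul_eq_one_right e).symm, hinv])
  by_cases h2 : orderOf (s * t) = 2
  · have e : (s * t) * (s * t) = 1 := by rw [← pow_two, ← h2, pow_orderOf_eq_one]
    rw [← inv_eq_of_mul_eq_one_right e, mul_inv_rev, hinv, htinv]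
  exfalso
  obtain ⟨m, hm⟩ := (hpr _ h1).odd_of_ne_two h2
  have hflip : ∀ i : ℕ, s * ((s * t) ^ i)⁻¹ = (s * t) ^ i * s := by
    intro i
    induction i with
    | zero => simp
    | succ i ih =>
      rw [pow_succ (s * t) i, mul_inv_rev, mul_inv_rev, hinv, htinv, ((Commute.refl (s * t)).pow_left i).eq]
      calc s * (t * s * ((s * t) ^ i)⁻¹) = s * t * (s * ((s * t) ^ i)⁻¹) := by simp only [mul_assoc]
        _ = s * t * (s * t) ^ i * s := by rw [ih]; simp only [mul_assoc]
  refine h (isConj_iff.mpr ⟨(s * t) ^ m, ?_⟩)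
  have he : (s * t) ^ (2 * m + 1) = 1 := by rw [← hm, pow_orderOf_eq_one]
  rw [pow_succ, mul_eq_one_iff_eq_inv, two_mul, pow_add] at he
  rw [mul_assoc, hflip, ← mul_assoc, he, mul_inv_rev, hinv, htinv, mul_assoc, hs, mul_one]

include D in
theorem isConj_invol {x y : G} (hx : orderOf x = 2) (hy : orderOf y = 2) : IsConj x y := by
  haveI : Fact (Nat.Prime 2) := ⟨Nat.prime_two⟩
  by_contra hxy
  have hne : ∀ {g : G}, orderOf g = 2 → g * g = 1 ∧ g ≠ 1 := fun {g} hg =>
    ⟨by rw [← pow_two, ← hg, pow_orderOf_eq_one], fun e => by simp [e] at hg⟩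
  have hconj : ∀ (c : G), orderOf (c * x * c⁻¹) = 2 := fun c => by
    rw [← MulAut.conj_apply, MulEquiv.orderOf_eq, hx]
  obtain ⟨T, hT⟩ := exists_sylow D hy
  have hn : (T : Subgroup G).Normal := by
    refine ⟨fun n hn c => ?_⟩
    -- both `x` and its conjugate are centralised by `y`
    have hin : ∀ c : G, c * x * c⁻¹ ∈ (T : Subgroup G) := fun c => by
      rw [hT, Subgroup.mem_centralizer_singleton_iff]
      exact commute_of_not_isConj (hne (hconj c)).1 (hne hy).1 D.prime_order fun h =>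
        hxy ((isConj_iff.mpr ⟨c, rfl⟩).trans h)
    have hx0 : x ∈ (T : Subgroup G) := by simpa using hin 1
    have e1 := two_cent D T hx0 (hne hx).2
    have e2 := two_cent D T (hin c) (hne (hconj c)).2
    rw [e1, Subgroup.mem_centralizer_singleton_iff] at hn
    rw [e2, Subgroup.mem_centralizer_singleton_iff]
    calc c * n * c⁻¹ * (c * x * c⁻¹) = c * (n * x) * c⁻¹ := by group
      _ = c * (x * n) * c⁻¹ := by rw [hn]
      _ = c * x * c⁻¹ * (c * n * c⁻¹) := by group
  haveI := hn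
  haveI : Subsingleton (Sylow 2 G) :=
    ⟨fun P Q => by
      letI := T.unique_of_normal hn
      exact (Unique.eq_default P).trans (Unique.eq_default Q).symm⟩
  have hy1 : y ∈ (T : Subgroup G) := by
    rw [hT]; exact Subgroup.mem_centralizer_singleton_iff.mpr rfl
  have hT1 : (T : Subgroup G) ≠ ⊤ := fun e => D.not_solvable (Group.isSolvable_of_comm fun a b => by
    haveI := sylow_two_comm D T
    exact congrArg Subtype.val (mul_comm' (⟨a, e ▸ Subgroup.mem_top a⟩ : (T : Subgroup G))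
      ⟨b, e ▸ Subgroup.mem_top b⟩))
  have hT2 : (T : Subgroup G) = ⊥ := eq_bot_of_invariant D _ (fun φ g hg => by
    by_cases hg1 : g = 1
    · simp [hg1]
    obtain ⟨Q, hQ⟩ := exists_sylow D (g := φ g) (p := 2) (by rw [φ.orderOf_eq, orderOf_two D hg1 T hg])
    rw [Subsingleton.elim T Q, hQ]
    exact Subgroup.mem_centralizer_singleton_iff.mpr rfl) hT1
  exact (hne hy).2 (Subgroup.mem_bot.mp (hT2 ▸ hy1))

include D in
theorem wn_two (T : Sylow 2 G) : wn T + 1 = Nat.card (T : Subgroup G) ∧ wn T ≠ 1 := by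
  haveI : Fact (Nat.Prime 2) := ⟨Nat.prime_two⟩
  haveI := sylow_two_comm D T
  obtain ⟨k, hk, hk1⟩ := classes D (two_dvd D) T
  rw [hk1 fun x y hx hy => isConj_invol D hx hy, one_mul, zc_of_comm T inferInstance] at hk
  have : 0 < Nat.card (T : Subgroup G) := Nat.card_pos
  exact ⟨by omega, wn_ne_one D (two_dvd D) T inferInstance⟩

section fpf

open Finset

variable {A : Type*} [CommGroup A]

theorem prod_orbit (t : ℕ) (χ : MulAut A) (hχ : χ ^ t = 1) (hf : ∀ a, χ a = a → a = 1) (v : A) :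
    ∏ j ∈ range t, (χ ^ j) v = 1 := by
  refine hf _ ?_
  rw [map_prod]
  have h1 := prod_range_succ' (fun j => (χ ^ j) v) t
  rw [prod_range_succ, hχ, pow_zero] at h1
  refine (prod_congr rfl fun j _ => ?_).trans (mul_right_cancel h1).symm
  rw [pow_succ', MulAut.mul_apply]

/-- An elementary abelian group of rank two cannot act freely. -/
theorem fpf_rank_two (t : ℕ) (ht : t.Prime) (φ ψ : MulAut A) (hc : Commute φ ψ) (hφ : φ ^ t = 1)
    (hψ : ψ ^ t = 1) (hf : ∀ i k : ℕ, ¬ (t ∣ i ∧ t ∣ k) → ∀ a, (φ ^ i * ψ ^ k) a = a → a = 1)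
    (v : A) : v ^ t = 1 := by
  have h1 : ∀ k, ∏ j ∈ range t, ((φ * ψ ^ k) ^ j) v = 1 := fun k => by
    refine prod_orbit t _ ?_ ?_ v
    · rw [(hc.pow_right k).mul_pow, hφ, ← pow_mul, mul_comm, pow_mul, hψ, one_pow, one_mul]
    · intro a ha
      exact hf 1 k (fun h => ht.one_lt.ne' (Nat.dvd_one.mp h.1)) a (by rwa [pow_one])
  have h2 : ∀ j ∈ range t, ∏ k ∈ range t, ((φ * ψ ^ k) ^ j) v = if j = 0 then v ^ t else 1 := by
    intro j hj
    split_ifs with h0
    · subst h0; simp
    · have h3 : ∀ k, ((φ * ψ ^ k) ^ j) v = (φ ^ j) (((ψ ^ j) ^ k) v) := fun k => by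
        rw [(hc.pow_right k).mul_pow, ← pow_mul, mul_comm k j, pow_mul, MulAut.mul_apply]
      simp only [h3]
      rw [← map_prod, prod_orbit t (ψ ^ j) (by rw [← pow_mul, mul_comm, pow_mul, hψ, one_pow]) ?_ v,
        map_one]
      intro a ha
      exact hf 0 j (fun h => h0 (Nat.eq_zero_of_dvd_of_lt h.2 (mem_range.mp hj))) a
        (by rwa [pow_zero, one_mul])
  have h4 : ∏ j ∈ range t, ∏ k ∈ range t, ((φ * ψ ^ k) ^ j) v = 1 := by
    rw [prod_comm]
    exact prod_eq_one fun k _ => h1 k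
  rw [prod_congr rfl h2, prod_ite_eq' (range t) 0 fun _ => v ^ t,
    if_pos (mem_range.mpr ht.pos)] at h4
  exact h4

end fpf

include D in
theorem not_sq_dvd (T : Sylow 2 G) {t : ℕ} (ht : t.Prime) (ht2 : t ≠ 2) : ¬ t ^ 2 ∣ wn T := by
  intro hdvd
  haveI : Fact t.Prime := ⟨ht⟩
  haveI : Fact (Nat.Prime 2) := ⟨Nat.prime_two⟩
  haveI := sylow_two_comm D T
  set N : Subgroup G := Subgroup.normalizer ((T : Subgroup G) : Set G) with hN
  obtain ⟨Q, hQ⟩ := Sylow.exists_subgroup_card_pow_prime (G := N) t (n := 2)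
    (hdvd.trans (Subgroup.relIndex_dvd_of_le_left _ bot_le |>.trans (by rw [Subgroup.relIndex_bot_left])))
  have hQc : ∀ a b : Q, a * b = b * a := IsPGroup.commutative_of_card_eq_prime_sq hQ
  have hQo : ∀ a : Q, a ≠ 1 → orderOf (((a : N) : G)) = t := by
    intro a ha
    obtain ⟨k, hk⟩ := IsPGroup.iff_orderOf.mp (IsPGroup.of_card hQ) a
    rw [← Subgroup.orderOf_coe, ← Subgroup.orderOf_coe] at hk
    have hpr := D.prime_order _ (fun e => ha (Subtype.ext (Subtype.ext e)) : (((a : N) : G)) ≠ 1)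
    rw [hk] at hpr ⊢
    rw [hpr.eq_one_of_pow, pow_one]
  haveI : Nontrivial Q := Finite.one_lt_card_iff_nontrivial.mp (hQ ▸ Nat.one_lt_pow two_ne_zero ht.one_lt)
  obtain ⟨y, hy⟩ := exists_ne (1 : Q)
  have hyo : orderOf y = t := by rw [← Subgroup.orderOf_coe, ← Subgroup.orderOf_coe]; exact hQo y hy
  obtain ⟨x, hx⟩ : ∃ x : Q, x ∉ Subgroup.zpowers y := by
    by_contra h
    push Not at h
    have h' : Nat.card (Subgroup.zpowers y) = Nat.card Q :=
      (congrArg (fun K : Subgroup Q => Nat.card K) (eq_top_iff.mpr fun z _ => h z)).trans Subgroup.card_top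
    rw [Nat.card_zpowers, hyo, hQ] at h'
    nlinarith [ht.one_lt]
  have hx1 : x ≠ 1 := fun e => hx (e ▸ one_mem _)
  have hxo : orderOf x = t := by rw [← Subgroup.orderOf_coe, ← Subgroup.orderOf_coe]; exact hQo x hx1
  letI : CommGroup (T : Subgroup G) := { (inferInstance : Group (T : Subgroup G)) with mul_comm := mul_comm' }
  let ρ : N →* MulAut (T : Subgroup G) :=
    (MulAut.congr (Subgroup.subgroupOfEquivOfLe
      (Subgroup.le_normalizer : (T : Subgroup G) ≤ N))).toMonoidHom.comp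
        (MulAut.conjNormal (H := (T : Subgroup G).subgroupOf N))
  have hρ : ∀ (n : N) (a : (T : Subgroup G)), ((ρ n a : (T : Subgroup G)) : G) = n * a * (n : G)⁻¹ :=
    fun n a => rfl
  have hcx : Commute (ρ x) (ρ y) := by
    rw [Commute, SemiconjBy, ← map_mul, ← map_mul, ← Subgroup.coe_mul, hQc x y]; rfl
  have hpow : ∀ z : Q, orderOf z = t → (ρ z) ^ t = 1 := fun z hz => by
    rw [← map_pow, ← Subgroup.coe_pow, ← hz, pow_orderOf_eq_one]; simp
  obtain ⟨v, hv⟩ : ∃ v : (T : Subgroup G), v ≠ 1 := by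
    haveI : Nontrivial (T : Subgroup G) :=
      (Subgroup.nontrivial_iff_ne_bot _).mpr (T.ne_bot_of_dvd_card (two_dvd D))
    exact exists_ne 1
  have hfix : ∀ i k : ℕ, ¬ (t ∣ i ∧ t ∣ k) →
      ∀ a : (T : Subgroup G), (ρ x ^ i * ρ y ^ k) a = a → a = 1 := by
    intro i k hik a ha
    by_contra ha1
    rw [← map_pow, ← map_pow, ← map_mul, ← Subgroup.coe_pow, ← Subgroup.coe_pow,
      ← Subgroup.coe_mul] at ha
    set z : Q := x ^ i * y ^ k with hz
    have hz1 : z ≠ 1 := by
      intro e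
      refine hik ?_
      have hi : t ∣ i := by
        by_contra hi
        refine hx ?_
        have hxi : x ^ i ∈ Subgroup.zpowers y := by
          rw [eq_inv_of_mul_eq_one_left e]
          exact inv_mem (pow_mem (Subgroup.mem_zpowers y) k)
        obtain ⟨m, hm⟩ := exists_pow_eq_self_of_coprime (x := x) (n := i)
          (by rw [hxo]; exact ((Nat.Prime.coprime_iff_not_dvd ht).mpr hi).symm)
        rw [← hm]
        exact pow_mem hxi m
      refine ⟨hi, ?_⟩
      obtain ⟨i', rfl⟩ := hi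
      rw [hz, pow_mul, ← hxo, pow_orderOf_eq_one, one_pow, one_mul] at e
      exact hyo ▸ orderOf_dvd_of_pow_eq_one e
    have hcomm : ((z : N) : G) * (a : G) = (a : G) * ((z : N) : G) := by
      have := congrArg (fun w : (T : Subgroup G) => (w : G)) ha
      rw [hρ] at this
      exact mul_inv_eq_iff_eq_mul.mp this
    obtain ⟨j, hj⟩ := cent_pgroup D ht (hQo z hz1) ⟨(a : G), Subgroup.mem_centralizer_singleton_iff.mpr hcomm.symm⟩
    have ho := orderOf_two D (fun e => ha1 (Subtype.ext e)) T a.2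
    have h2 : 2 ∣ t ^ j := ho ▸ orderOf_dvd_of_pow_eq_one (congrArg Subtype.val hj)
    exact ht2 ((Nat.prime_dvd_prime_iff_eq Nat.prime_two ht).mp (Nat.prime_two.dvd_of_dvd_pow h2)).symm
  have hvt := fpf_rank_two t ht (ρ x) (ρ y) hcx (hpow x hxo) (hpow y hyo) hfix v
  have hvo : orderOf v = 2 := by
    rw [← Subgroup.orderOf_coe]; exact orderOf_two D (fun e => hv (Subtype.ext e)) T v.2
  exact ht2 ((Nat.prime_dvd_prime_iff_eq Nat.prime_two ht).mp (hvo ▸ orderOf_dvd_of_pow_eq_one hvt)).symm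

theorem card_normalizer {p : ℕ} [Fact p.Prime] (P : Sylow p G) :
    Nat.card (Subgroup.normalizer ((P : Subgroup G) : Set G)) = Nat.card (P : Subgroup G) * wn P := by
  rw [wn, Subgroup.relIndex, ← ((P : Subgroup G).subgroupOf _).card_mul_index,
    Nat.card_congr (Subgroup.subgroupOfEquivOfLe Subgroup.le_normalizer).toEquiv]

include D in
/-- Number of elements of odd prime order inside the normalizer of a Sylow 2-subgroup. -/
theorem count_in_normalizer (T : Sylow 2 G) {t r : ℕ} [Fact t.Prime] (hr : r.Prime) (hrt : r ≠ t)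
    (ht2 : t ≠ 2) (hr2 : r ≠ 2) (hw : wn T = t * r)
    (hPt : ∀ P : Sylow t G, wn P = 2) :
    Nat.card (T : Subgroup G) * r * (t - 1) ≤
      Nat.card {g : Subgroup.normalizer ((T : Subgroup G) : Set G) // orderOf g = t} := by
  haveI : Fact (Nat.Prime 2) := ⟨Nat.prime_two⟩
  have ht : t.Prime := Fact.out
  set N : Subgroup G := Subgroup.normalizer ((T : Subgroup G) : Set G) with hN
  obtain ⟨nq, hq⟩ := T.isPGroup'.exists_card_eq
  have hcN : Nat.card N = Nat.card (T : Subgroup G) * (t * r) := by rw [hN, card_normalizer, hw]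
  have hco : ∀ {s : ℕ}, s.Prime → s ≠ 2 → s.Coprime (Nat.card (T : Subgroup G)) := fun hs hs2 => by
    rw [hq]; exact ((Nat.coprime_primes hs Nat.prime_two).mpr hs2).pow_right _
  have hY : ∀ Y : Sylow t N, Nat.card (Y : Subgroup N) = t := fun Y => by
    obtain ⟨k, hk⟩ := Y.isPGroup'.exists_card_eq
    have h1 : t ^ 1 ∣ t ^ k := hk ▸ Y.pow_dvd_card_of_pow_dvd_card (n := 1)
      ⟨Nat.card (T : Subgroup G) * r, by rw [hcN]; ring⟩
    have h2 : t ^ k ∣ Nat.card (T : Subgroup G) * r * t := by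
      rw [← hk, mul_assoc, mul_comm r, ← hcN]; exact Subgroup.card_subgroup_dvd_card _
    have h3 : (t ^ k).Coprime (Nat.card (T : Subgroup G) * r) :=
      ((hco ht ht2).mul_right ((Nat.coprime_primes ht hr).mpr hrt.symm)).pow_left k
    have h4 := h3.dvd_of_dvd_mul_left h2
    rw [pow_one] at h1
    rw [hk]
    exact Nat.dvd_antisymm h4 h1
  have hnum : Nat.card (Sylow t N) = Nat.card (T : Subgroup G) * r := by
    obtain ⟨Y⟩ : Nonempty (Sylow t N) := inferInstance
    set M : Subgroup N := Subgroup.normalizer ((Y : Subgroup N) : Set N) with hM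
    suffices hMc : Nat.card M = t by
      have h := M.card_mul_index
      rw [hMc, hcN] at h
      rw [Y.card_eq_index_normalizer]
      exact mul_left_cancel₀ ht.ne_zero (h.trans (by ring))
    have hYM : t ∣ Nat.card M := hY Y ▸ Subgroup.card_dvd_of_le Subgroup.le_normalizer
    obtain ⟨y, hyY, hy1⟩ : ∃ y : N, y ∈ (Y : Subgroup N) ∧ y ≠ 1 := by
      haveI : Nontrivial (Y : Subgroup N) := Finite.one_lt_card_iff_nontrivial.mp ((hY Y).symm ▸ ht.one_lt)
      obtain ⟨y, hy⟩ := exists_ne (1 : (Y : Subgroup N))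
      exact ⟨y, y.2, fun e => hy (Subtype.ext e)⟩
    have hyo : orderOf ((y : G)) = t := by
      have h := orderOf_dvd_natCard (⟨y, hyY⟩ : (Y : Subgroup N))
      rw [hY Y, ← Subgroup.orderOf_coe] at h
      rw [Subgroup.orderOf_coe]
      exact (ht.eq_one_or_self_of_dvd _ h).resolve_left fun e => hy1 (orderOf_eq_one_iff.mp e)
    have hzy : Subgroup.zpowers y = (Y : Subgroup N) :=
      Subgroup.eq_of_le_of_card_ge (Subgroup.zpowers_le.mpr hyY)
        (by rw [hY Y, Nat.card_zpowers, ← Subgroup.orderOf_coe, hyo])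
    obtain ⟨P, hP⟩ := exists_sylow D hyo
    have hconj : ∀ m ∈ M, ∃ k : ℤ, (m : G) * y * (m : G)⁻¹ = (y : G) ^ k := fun m hm => by
      have := (Subgroup.mem_normalizer_iff.mp hm y).mp hyY
      rw [← hzy] at this
      obtain ⟨k, hk⟩ := Subgroup.mem_zpowers_iff.mp this
      exact ⟨k, by simpa using (congrArg Subtype.val hk).symm⟩
    have hsub : M.map N.subtype ≤ Subgroup.normalizer ((P : Subgroup G) : Set G) := by
      rintro _ ⟨m, hm, rfl⟩
      refine Subgroup.mem_normalizer_iff.mpr fun z => ?_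
      have key : ∀ m ∈ M, ∀ z ∈ (P : Subgroup G), (m : G) * z * (m : G)⁻¹ ∈ (P : Subgroup G) := by
        intro m hm z hz
        obtain ⟨k, hk⟩ := hconj _ (M.inv_mem hm)
        rw [hP, Subgroup.mem_centralizer_singleton_iff] at hz ⊢
        have hyk : (y : G) = (m : G) * (y : G) ^ k * (m : G)⁻¹ := by
          rw [← hk, Subgroup.coe_inv]; group
        have hzk : z * (y : G) ^ k = (y : G) ^ k * z := (Commute.zpow_right hz k).eq
        rw [hyk]
        calc (m : G) * z * (m : G)⁻¹ * ((m : G) * (y : G) ^ k * (m : G)⁻¹)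
            = (m : G) * (z * (y : G) ^ k) * (m : G)⁻¹ := by group
          _ = (m : G) * ((y : G) ^ k * z) * (m : G)⁻¹ := by rw [hzk]
          _ = _ := by group
      refine ⟨fun hz => key m hm z hz, fun hz => ?_⟩
      have := key _ (M.inv_mem hm) _ hz
      simpa [mul_assoc] using this
    have hd2 := Subgroup.card_dvd_of_le hsub
    rw [Subgroup.card_map_of_injective N.subtype_injective, card_normalizer P, hPt P] at hd2
    have hodd : ¬ 2 ∣ Nat.card M := by
      intro h2
      obtain ⟨i, hi⟩ := exists_prime_orderOf_dvd_card' 2 h2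
      rw [← Subgroup.orderOf_coe, ← Subgroup.orderOf_coe] at hi
      have hi1 : ((i : N) : G) ≠ 1 := fun e => by simp [e] at hi
      have hiT : ((i : N) : G) ∈ (T : Subgroup G) := by
        have hp : IsPGroup 2 (Subgroup.zpowers ((i : N) : G)) :=
          IsPGroup.of_card (n := 1) (by rw [Nat.card_zpowers, hi, pow_one])
        exact (hp.inf_normalizer_sylow T ▸
          ⟨Subgroup.mem_zpowers _, (i : N).2⟩ : ((i : N) : G) ∈ Subgroup.zpowers ((i : N) : G) ⊓ (T : Subgroup G)).2
      obtain ⟨k, hk⟩ := hconj _ i.2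
      have hc : (y : G) * (i : N) * (y : G)⁻¹ * (((i : N) : G))⁻¹ ∈ (T : Subgroup G) :=
        Subgroup.mul_mem _ ((Subgroup.mem_normalizer_iff.mp y.2 _).mp hiT) (Subgroup.inv_mem _ hiT)
      have hc' : (y : G) * (i : N) * (y : G)⁻¹ * (((i : N) : G))⁻¹ = (y : G) ^ (1 - k) := by
        rw [sub_eq_add_neg, zpow_add, zpow_one, zpow_neg, ← hk]; group
      rw [hc'] at hc
      have h1 : (y : G) ^ (1 - k) = 1 := by
        refine orderOf_eq_one_iff.mp (Nat.eq_one_of_dvd_coprimes (hco ht ht2) ?_ ?_)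
        · exact hyo ▸ orderOf_dvd_of_mem_zpowers (zpow_mem (Subgroup.mem_zpowers _) _)
        · exact Subgroup.orderOf_dvd_natCard _ hc
      rw [← hc', mul_inv_eq_one, mul_inv_eq_iff_eq_mul] at h1
      obtain ⟨j, hj⟩ := cent_pgroup D ht hyo ⟨((i : N) : G), Subgroup.mem_centralizer_singleton_iff.mpr h1.symm⟩
      have h22 : 2 ∣ t ^ j := hi ▸ orderOf_dvd_of_pow_eq_one (congrArg Subtype.val hj)
      exact ht2 ((Nat.prime_dvd_prime_iff_eq Nat.prime_two ht).mp (Nat.prime_two.dvd_of_dvd_pow h22)).symm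
    have hodd' : (Nat.card M).Coprime 2 := (Nat.prime_two.coprime_iff_not_dvd.mpr hodd).symm
    obtain ⟨k, hk⟩ := (P.isPGroup').exists_card_eq
    rw [hk] at hd2
    obtain ⟨j, -, hj⟩ := (Nat.dvd_prime_pow ht).mp (hodd'.dvd_of_dvd_mul_right hd2)
    have h3 : t ^ j ∣ Nat.card (T : Subgroup G) * r * t := by
      rw [← hj, mul_assoc, mul_comm r, ← hcN]; exact Subgroup.card_subgroup_dvd_card _
    have h4 := (((hco ht ht2).mul_right ((Nat.coprime_primes ht hr).mpr hrt.symm)).pow_left j).dvd_of_dvd_mul_left h3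
    rw [← hj] at h4
    exact Nat.dvd_antisymm h4 hYM
  classical
  haveI := Fintype.ofFinite (Sylow t N)
  let f : (Σ Y : Sylow t N, {x : (Y : Subgroup N) // x ≠ 1}) → {g : N // orderOf g = t} := fun s =>
    ⟨(s.2.1 : N), by
      obtain ⟨Y, x, hx⟩ := s
      have h := orderOf_dvd_natCard x
      rw [hY Y] at h
      rw [Subgroup.orderOf_coe]
      exact (ht.eq_one_or_self_of_dvd _ h).resolve_left fun e => hx (orderOf_eq_one_iff.mp e)⟩
  have hf : Function.Injective f := by
    intro s s' hss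
    have he : ∀ s : Σ Y : Sylow t N, {x : (Y : Subgroup N) // x ≠ 1},
        Subgroup.zpowers ((f s : N)) = (s.1 : Subgroup N) := fun s =>
      Subgroup.eq_of_le_of_card_ge (Subgroup.zpowers_le.mpr s.2.1.2)
        (by rw [hY, Nat.card_zpowers, (f s).2])
    have e1 := he s
    rw [hss, he s'] at e1
    obtain ⟨Y, x, hx⟩ := s
    obtain ⟨Y', x', hx'⟩ := s'
    obtain rfl : Y' = Y := Sylow.ext e1
    obtain rfl : x = x' := Subtype.ext (congrArg (fun w : {g : N // orderOf g = t} => (w : N)) hss)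
    rfl
  refine le_trans (le_of_eq ?_) (Nat.card_le_card_of_injective f hf)
  rw [Nat.card_sigma, ← hnum, Nat.card_eq_fintype_card, ← Finset.card_univ]
  refine (Finset.sum_const_nat fun Y _ => ?_).symm
  haveI := Fintype.ofFinite (Y : Subgroup N)
  rw [Nat.card_eq_fintype_card, Fintype.card_subtype_compl, Fintype.card_subtype_eq,
    ← Nat.card_eq_fintype_card, hY Y]

end Cfsg.Agent.FourOrbits
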