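import Cfsg.Agent.Lib.FourOrbits.Eight
import Cfsg.Agent.Lib.Recog.OrderSixty

/-!
# Four orbits: the theorem
-/

set_option autoImplicit false

namespace Cfsg.Agent.FourOrbits

universe u

variable {G : Type u} [Group G] [Finite G] (D : Data G)

theorem shape {q a b : ℕ} (hq : q = 4 ∨ 8 ≤ q) {wa wb : ℕ} {X Y : ℕ}
    (ha : 3 ≤ a) (hb : 3 ≤ b) (hwa : 1 ≤ wa) (hwb : 1 ≤ wb)
    (hX : (9 * X ≤ q * a * b) ∨ (2 ≤ wa ∧ X * wa = q * b * (a - 1)))
    (hY : (9 * Y ≤ q * a * b) ∨ (2 ≤ wb ∧ Y * wb = q * a * (b - 1)))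
    (hsum : q * a * b = 1 + a * b + X + Y) :
    (wa = 2 ∧ X * 2 = q * b * (a - 1) ∧
      ((wb = 2 ∧ Y * 2 = q * a * (b - 1)) ∨ (wb = 3 ∧ q = 4 ∧ Y * 3 = q * a * (b - 1)))) ∨
    (wb = 2 ∧ Y * 2 = q * a * (b - 1) ∧
      (wa = 3 ∧ q = 4 ∧ X * 3 = q * b * (a - 1))) := by
  obtain ⟨a, rfl⟩ : ∃ a', a = a' + 3 := ⟨a - 3, by omega⟩
  obtain ⟨b, rfl⟩ : ∃ b', b = b' + 3 := ⟨b - 3, by omega⟩
  simp only [show a + 3 - 1 = a + 2 from rfl, show b + 3 - 1 = b + 2 from rfl] at hX hY ⊢
  have hq4 : 4 ≤ q := by omega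
  have h4 : 4 * ((a + 3) * (b + 3)) ≤ q * (a + 3) * (b + 3) := by
    rw [mul_assoc q]; exact Nat.mul_le_mul_right _ (by omega)
  rcases hX with hX | ⟨hwa2, hX⟩
  · rcases hY with hY | ⟨hwb2, hY⟩
    · nlinarith
    · nlinarith [Nat.mul_le_mul_left Y hwb2]
  rcases hY with hY | ⟨hwb2, hY⟩
  · nlinarith [Nat.mul_le_mul_left X hwa2]
  rcases Nat.lt_or_ge wa 3 with ha2 | ha3
  · obtain rfl : wa = 2 := by omega
    refine Or.inl ⟨rfl, hX, ?_⟩
    rcases Nat.lt_or_ge wb 4 with hb4 | hb4
    · rcases (by omega : wb = 2 ∨ wb = 3) with rfl | rfl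
      · exact Or.inl ⟨rfl, hY⟩
      · refine Or.inr ⟨rfl, ?_, hY⟩
        rcases hq with hq | hq
        · exact hq
        · exfalso
          have h8 : 8 * ((a + 3) * (b + 3)) ≤ q * (a + 3) * (b + 3) := by
            rw [mul_assoc q]; exact Nat.mul_le_mul_right _ hq
          nlinarith
    · exfalso
      nlinarith [Nat.mul_le_mul_left Y hb4, Nat.mul_le_mul hq4 hb, Nat.mul_le_mul hq4 ha]
  · rcases Nat.lt_or_ge wb 3 with hb2 | hb3
    · obtain rfl : wb = 2 := by omega
      refine Or.inr ⟨rfl, hY, ?_⟩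
      rcases Nat.lt_or_ge wa 4 with ha4 | ha4
      · obtain rfl : wa = 3 := by omega
        refine ⟨rfl, ?_, hX⟩
        rcases hq with hq | hq
        · exact hq
        · exfalso
          have h8 : 8 * ((a + 3) * (b + 3)) ≤ q * (a + 3) * (b + 3) := by
            rw [mul_assoc q]; exact Nat.mul_le_mul_right _ hq
          nlinarith
      · exfalso
        nlinarith [Nat.mul_le_mul_left X ha4, Nat.mul_le_mul hq4 hb, Nat.mul_le_mul hq4 ha]
    · exfalso
      nlinarith [Nat.mul_le_mul_left X ha3, Nat.mul_le_mul_left Y hb3]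

theorem four_case {a b X Y : ℕ} (ha : 2 ≤ a) (hb : 2 ≤ b) (hX : X * 2 = 4 * b * (a - 1))
    (hY : Y * 3 = 4 * a * (b - 1)) (hsum : 4 * a * b = 1 + a * b + X + Y) :
    (a = 7 ∧ b = 25) ∨ (a = 9 ∧ b = 11) ∨ (a = 13 ∧ b = 7) ∨ (a = 27 ∧ b = 5) := by
  obtain ⟨a, rfl⟩ : ∃ a', a = a' + 1 := ⟨a - 1, by omega⟩
  obtain ⟨b, rfl⟩ : ∃ b', b = b' + 1 := ⟨b - 1, by omega⟩
  simp only [Nat.add_sub_cancel] at hX hY
  have h1 : a * b = 5 * b + 3 * a + 6 := by nlinarith
  have ha6 : 6 ≤ a := by
    by_contra h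
    interval_cases a <;> omega
  obtain ⟨c, rfl⟩ : ∃ c, a = c + 5 := ⟨a - 5, by omega⟩
  have hb4 : 4 ≤ b := by
    by_contra h
    interval_cases b <;> omega
  obtain ⟨d, rfl⟩ : ∃ d, b = d + 3 := ⟨b - 3, by omega⟩
  have h2 : c * d = 21 := by nlinarith
  have hc : c ∣ 21 := ⟨d, by omega⟩
  have hc1 := Nat.le_of_dvd (by norm_num) hc
  interval_cases c <;> omega

theorem two_case {q a b X Y : ℕ} (ha : 1 ≤ a) (hb : 1 ≤ b) (hX : X * 2 = q * b * (a - 1))
    (hY : Y * 2 = q * a * (b - 1)) (hsum : q * a * b = 1 + a * b + X + Y) :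
    q * (a + b) = 2 * (a * b) + 2 := by
  obtain ⟨a, rfl⟩ : ∃ a', a = a' + 1 := ⟨a - 1, by omega⟩
  obtain ⟨b, rfl⟩ : ∃ b', b = b' + 1 := ⟨b - 1, by omega⟩
  simp only [Nat.add_sub_cancel] at hX hY
  nlinarith

/-- `2a` is too large unless `a = q - 1`. -/
theorem a_eq {q a b p k : ℕ} (hq : 4 ≤ q) (hp : q = p + 1) (ha : a = p ^ k) (hk : 1 ≤ k)
    (heq : q * (a + b) = 2 * (a * b) + 2) : a = p ∧ b = q + 1 := by
  subst hp
  rcases Nat.lt_or_ge k 2 with hk2 | hk2
  · obtain rfl : k = 1 := by omega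
    rw [pow_one] at ha
    subst ha
    refine ⟨rfl, ?_⟩
    obtain ⟨c, rfl⟩ : ∃ c, a = c + 2 := ⟨a - 2, by omega⟩
    have h1 : (c + 1) * b = (c + 1) * (c + 2 + 1 + 1) := by nlinarith
    exact mul_left_cancel₀ (by omega) h1
  · exfalso
    have h1 : p ^ 2 ≤ a := ha ▸ Nat.pow_le_pow_right (by omega) hk2
    rcases Nat.lt_or_ge (2 * b) (p + 2) with hb | hb
    · nlinarith [Nat.mul_le_mul_left a (show 2 * b ≤ p + 1 by omega)]
    · have hge : (p + 1) * b ≥ a + 2 := by nlinarith [Nat.mul_le_mul_left a hb]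
      have hbp : p ≤ b := by
        by_contra hlt
        nlinarith [Nat.mul_le_mul_left (p + 1) (show b + 1 ≤ p by omega)]
      nlinarith [Nat.mul_le_mul_left a hbp, Nat.mul_le_mul_right b h1,
        Nat.mul_le_mul_right b (show 2 * (p + 1) ≤ p ^ 2 by nlinarith),
        Nat.mul_le_mul_right a (show 2 * (p + 1) ≤ 3 * p by omega)]

/-- The local data at an odd prime. -/
theorem local_data {p : ℕ} [Fact p.Prime] (hD : Data G) (hpG : p ∣ Nat.card G) (P : Sylow p G)
    (M : ℕ) (hM : Nat.card G = Nat.card (P : Subgroup G) * M) (hp3 : 3 ≤ p) :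
    3 ≤ Nat.card (P : Subgroup G) ∧ 1 ≤ wn P ∧
      (9 * Nat.card {g : G // orderOf g = p} ≤ Nat.card G ∨
        (2 ≤ wn P ∧ IsMulCommutative (P : Subgroup G) ∧
          Nat.card {g : G // orderOf g = p} * wn P = M * (Nat.card (P : Subgroup G) - 1) ∧
          ∃ k, Nat.card (P : Subgroup G) - 1 = k * wn P)) := by
  have ha : p ≤ Nat.card (P : Subgroup G) := by
    obtain ⟨k, hk⟩ := P.isPGroup'.exists_card_eq
    have : p ∣ Nat.card (P : Subgroup G) := P.dvd_card_of_dvd_card hpG
    exact Nat.le_of_dvd Nat.card_pos this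
  have hw : 1 ≤ wn P := Nat.one_le_iff_ne_zero.mpr (Subgroup.index_ne_zero_of_finite (H := (P : Subgroup G).subgroupOf _))
  have hn : Nat.card (Sylow p G) * wn P = M := by
    have h := card_sylow_mul P
    rw [hM] at h
    exact mul_left_cancel₀ (Nat.card_pos (α := (P : Subgroup G))).ne' (by rw [← h]; ring)
  refine ⟨by omega, hw, ?_⟩
  rw [card_elements hD P]
  by_cases hc : IsMulCommutative (P : Subgroup G)
  · refine Or.inr ⟨?_, hc, ?_, ?_⟩
    · have := wn_ne_one hD hpG P hc; omega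
    · rw [zc_of_comm P hc, ← hn]; ring
    · obtain ⟨k, hk, -⟩ := classes hD hpG P
      exact ⟨k, zc_of_comm P hc ▸ hk⟩
  · refine Or.inl ?_
    rw [hM, ← hn]
    have h1 := zc_of_not_comm P hc
    have h9 : 9 ≤ p ^ 2 := by nlinarith
    calc 9 * (Nat.card (Sylow p G) * (zc P - 1))
        ≤ p ^ 2 * (Nat.card (Sylow p G) * zc P) :=
          Nat.mul_le_mul h9 (Nat.mul_le_mul_left _ (Nat.sub_le _ _))
      _ = Nat.card (Sylow p G) * (zc P * p ^ 2) := by ring
      _ ≤ Nat.card (Sylow p G) * Nat.card (P : Subgroup G) := Nat.mul_le_mul_left _ h1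
      _ = Nat.card (P : Subgroup G) * (Nat.card (Sylow p G) * 1) := by ring
      _ ≤ _ := Nat.mul_le_mul_left _ (Nat.mul_le_mul_left _ hw)

theorem three_pow_two_pow {n k : ℕ} (h : 3 ^ k = 2 ^ n + 1) : 2 ^ n = 2 ∨ 2 ^ n = 8 := by
  rcases Nat.even_or_odd k with ⟨j, rfl⟩ | ⟨j, rfl⟩
  · right
    obtain ⟨c, hc⟩ : ∃ c, 3 ^ j = c + 1 := ⟨3 ^ j - 1, by have := Nat.one_le_pow j 3 (by norm_num); omega⟩
    have h1 : c * (c + 2) = 2 ^ n := by
      rw [pow_add, hc] at h
      nlinarith
    obtain ⟨u, -, hu⟩ := (Nat.dvd_prime_pow Nat.prime_two).mp (⟨c + 2, h1.symm⟩ : c ∣ 2 ^ n)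
    obtain ⟨v, -, hv⟩ := (Nat.dvd_prime_pow Nat.prime_two).mp (⟨c, by rw [← h1, mul_comm]⟩ : c + 2 ∣ 2 ^ n)
    rw [← h1]
    rcases Nat.lt_or_ge u 2 with hu2 | hu2
    · interval_cases u
      · exfalso
        obtain rfl : c = 1 := by simpa using hu
        rcases Nat.lt_or_ge v 2 with hv2 | hv2
        · interval_cases v <;> simp at hv
        · have : 4 ∣ 2 ^ v := pow_dvd_pow 2 hv2
          omega
      · obtain rfl : c = 2 := by simpa using hu
        rfl
    · exfalso
      have h4 : 4 ∣ 2 ^ u := pow_dvd_pow 2 hu2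
      rcases Nat.lt_or_ge v 2 with hv2 | hv2
      · interval_cases v <;> simp at hv <;>
          (have := Nat.le_of_dvd (by positivity) h4; omega)
      · have h4' : 4 ∣ 2 ^ v := pow_dvd_pow 2 hv2
        omega
  · left
    rcases Nat.lt_or_ge n 2 with hn | hn
    · interval_cases n
      · exfalso
        have h3 : 3 ∣ 3 ^ (2 * j + 1) := dvd_pow_self 3 (by omega)
        rw [h] at h3
        norm_num at h3
      · rfl
    · exfalso
      have h4 : 4 ∣ 2 ^ n := pow_dvd_pow 2 hn
      have h3 : 3 ^ (2 * j + 1) % 4 = 3 := by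
        rw [pow_succ, pow_mul, Nat.mul_mod, Nat.pow_mod]; norm_num
      generalize 2 ^ n = N at *
      generalize 3 ^ (2 * j + 1) = M at *
      omega

include D in
/-- The branch `w = 3`. -/
theorem branch_three {p r : ℕ} [Fact p.Prime] [Fact r.Prime] (hr2 : r ≠ 2)
    (hset : ∀ t : ℕ, t.Prime → t ∣ Nat.card G → t = 2 ∨ t = p ∨ t = r) (Q : Sylow r G)
    (a : ℕ) (hw : wn Q = 3) (hwdvd : ∃ k, Nat.card (Q : Subgroup G) - 1 = k * wn Q)
    (hcases : (a = 7 ∧ Nat.card (Q : Subgroup G) = 25) ∨ (a = 9 ∧ Nat.card (Q : Subgroup G) = 11) ∨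
      (a = 13 ∧ Nat.card (Q : Subgroup G) = 7) ∨ (a = 27 ∧ Nat.card (Q : Subgroup G) = 5))
    (hrG : r ∣ Nat.card G) (hap : ∃ k, a = p ^ k) : False := by
  obtain ⟨k, hk⟩ := hwdvd
  rw [hw] at hk
  have h3 : 3 = p := by
    have h3G : 3 ∣ Nat.card G :=
      ⟨Nat.card (Sylow r G) * Nat.card (Q : Subgroup G), by rw [← card_sylow_mul Q, hw]; ring⟩
    rcases hset 3 Nat.prime_three h3G with h | h | h
    · norm_num at h
    · exact h
    · exfalso
      have hb : r ∣ Nat.card (Q : Subgroup G) := Q.dvd_card_of_dvd_card hrG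
      subst h
      rcases hcases with ⟨-, h'⟩ | ⟨-, h'⟩ | ⟨-, h'⟩ | ⟨-, h'⟩ <;> omega
  subst h3
  obtain ⟨i, hi⟩ := hap
  have h3a : a = 1 ∨ 3 ∣ a := by
    rcases Nat.eq_zero_or_pos i with rfl | hi'
    · exact Or.inl (by simpa using hi)
    · exact Or.inr (hi ▸ dvd_pow_self 3 hi'.ne')
  rcases hcases with ⟨h, h'⟩ | ⟨h, h'⟩ | ⟨h, h'⟩ | ⟨h, h'⟩ <;> omega

/-- The branch `w = 2`: identification, with `wn T = p`. -/
theorem branch_two (D : Data G) {p r : ℕ} [Fact p.Prime] [Fact r.Prime]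
    (hset : ∀ t : ℕ, t.Prime → t ∣ Nat.card G → t = 2 ∨ t = p ∨ t = r) (hpr : p ≠ r) (hp2 : p ≠ 2)
    (hr2 : r ≠ 2)
    (T : Sylow 2 G) (P : Sylow p G) (Q : Sylow r G) (hpG : p ∣ Nat.card G) (hrG : r ∣ Nat.card G)
    (hG : Nat.card G = Nat.card (T : Subgroup G) * Nat.card (P : Subgroup G) * Nat.card (Q : Subgroup G))
    (hwT : wn T = p) (hwP : wn P = 2) (hwQ : wn Q = 2)
    (heq : Nat.card (T : Subgroup G) * (Nat.card (P : Subgroup G) + Nat.card (Q : Subgroup G)) =
      2 * (Nat.card (P : Subgroup G) * Nat.card (Q : Subgroup G)) + 2)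
    (hcP : IsMulCommutative (P : Subgroup G)) :
    Nonempty (G ≃* alternatingGroup (Fin 5)) := by
  haveI : Fact (Nat.Prime 2) := ⟨Nat.prime_two⟩
  obtain ⟨hq, hw1⟩ := wn_two D T
  obtain ⟨n, hn⟩ := T.isPGroup'.exists_card_eq
  obtain ⟨k, hk⟩ := P.isPGroup'.exists_card_eq
  obtain ⟨j, hj⟩ := Q.isPGroup'.exists_card_eq
  have hp3 : 3 ≤ p := by have := (Fact.out : p.Prime).two_le; omega
  have hk1 : 1 ≤ k := by
    by_contra h
    have := P.dvd_card_of_dvd_card hpG
    rw [hk, Nat.lt_one_iff.mp (not_le.mp h), pow_zero] at this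
    exact (Fact.out : p.Prime).one_lt.ne' (Nat.dvd_one.mp this)
  obtain ⟨haP, hbQ⟩ := a_eq (q := Nat.card (T : Subgroup G)) (p := p) (by omega) (by omega) hk hk1 heq
  rw [hj] at hbQ
  by_cases h4 : Nat.card (T : Subgroup G) = 4
  · obtain rfl : p = 3 := by omega
    rw [h4] at hbQ
    have h5 : r = 5 := by
      have hd : r ∣ 5 := by
        rw [show (5 : ℕ) = r ^ j by omega]
        exact dvd_pow_self r (fun e => by rw [e, pow_zero] at hbQ; omega)
      exact (Nat.prime_dvd_prime_iff_eq Fact.out (by norm_num)).mp hd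
    subst h5
    rw [h4, haP, hj, hbQ] at hG
    refine OrderSixty.equiv_A5 (hG.trans rfl) ?_
    have h := card_sylow_mul Q
    rw [hwQ, hj, hbQ, hG] at h
    omega
  exfalso
  -- `r = 3`
  have h3 : r = 3 := by
    have hn2 : 2 ≤ n := by
      by_contra h
      rcases (by omega : n = 0 ∨ n = 1) with rfl | rfl
      · rw [pow_zero] at hn; omega
      · rw [pow_one] at hn; omega
    have hdiv : 3 ∣ p ∨ 3 ∣ r ^ j := by
      have h3q : ¬ 3 ∣ Nat.card (T : Subgroup G) := fun h => by
        rw [hn] at h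
        exact absurd (Nat.prime_three.dvd_of_dvd_pow h) (by norm_num)
      rw [hbQ]
      omega
    rcases hdiv with h | h
    · have := (Nat.prime_dvd_prime_iff_eq Nat.prime_three Fact.out).mp h
      omega
    · exact ((Nat.prime_dvd_prime_iff_eq Nat.prime_three Fact.out).mp
        (Nat.prime_three.dvd_of_dvd_pow h)).symm
  subst h3
  rw [hn] at hbQ
  rcases three_pow_two_pow hbQ with h | h
  · rw [h] at hn; omega
  · rw [h] at hn
    obtain rfl : p = 7 := by omega
    rw [hn, haP, hj, hbQ, h] at hG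
    refine not_504 D T hn hwT (hG.trans rfl) ?_
    rw [card_elements D P, zc_of_comm P hcP, haP]
    have h' := card_sylow_mul P
    rw [haP, hwP, hG] at h'
    omega

include D in
theorem main : Nonempty (G ≃* alternatingGroup (Fin 5)) := by
  classical
  haveI : Fact (Nat.Prime 2) := ⟨Nat.prime_two⟩
  obtain ⟨p, r, hpr, hp2, hr2, hset⟩ : ∃ p r : ℕ, p ≠ r ∧ p ≠ 2 ∧ r ≠ 2 ∧
      (Nat.card G).primeFactors = {2, p, r} := by
    have h := Finset.card_erase_of_mem (two_mem D)
    rw [D.card_primes] at h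
    obtain ⟨p, r, hne, he⟩ := Finset.card_eq_two.mp h
    have hpm : p ∈ (Nat.card G).primeFactors.erase 2 := by simp [he]
    have hrm : r ∈ (Nat.card G).primeFactors.erase 2 := by simp [he]
    refine ⟨p, r, hne, (Finset.mem_erase.mp hpm).1, (Finset.mem_erase.mp hrm).1, ?_⟩
    rw [← Finset.insert_erase (two_mem D), he]
  have hpm : p ∈ (Nat.card G).primeFactors := by simp [hset]
  have hrm : r ∈ (Nat.card G).primeFactors := by simp [hset]
  haveI : Fact p.Prime := ⟨Nat.prime_of_mem_primeFactors hpm⟩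
  haveI : Fact r.Prime := ⟨Nat.prime_of_mem_primeFactors hrm⟩
  have hp : p.Prime := Fact.out
  have hr : r.Prime := Fact.out
  have hpG := Nat.dvd_of_mem_primeFactors hpm
  have hrG := Nat.dvd_of_mem_primeFactors hrm
  have hset' : ∀ t : ℕ, t.Prime → t ∣ Nat.card G → t = 2 ∨ t = p ∨ t = r := fun t ht hd => by
    have : t ∈ (Nat.card G).primeFactors := Nat.mem_primeFactors.mpr ⟨ht, hd, Nat.card_pos.ne'⟩
    rw [hset] at this
    simpa using this
  obtain ⟨T⟩ : Nonempty (Sylow 2 G) := inferInstance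
  obtain ⟨P⟩ : Nonempty (Sylow p G) := inferInstance
  obtain ⟨Q⟩ : Nonempty (Sylow r G) := inferInstance
  have hG : Nat.card G = Nat.card (T : Subgroup G) * Nat.card (P : Subgroup G) * Nat.card (Q : Subgroup G) := by
    rw [T.card_eq_multiplicity, P.card_eq_multiplicity, Q.card_eq_multiplicity]
    conv_lhs => rw [← Nat.factorization_prod_pow_eq_self (n := Nat.card G) Nat.card_pos.ne']
    rw [Finsupp.prod, Nat.support_factorization, hset, Finset.prod_insert (by simp [hp2.symm, hr2.symm]),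
      Finset.prod_pair hpr, mul_assoc]
  obtain ⟨hq, hw1⟩ := wn_two D T
  set q := Nat.card (T : Subgroup G) with hqd
  have hq2 : 2 ≤ q := Nat.le_of_dvd Nat.card_pos (T.dvd_card_of_dvd_card (two_dvd D))
  obtain ⟨n, hn⟩ := T.isPGroup'.exists_card_eq
  have hq48 : q = 4 ∨ 8 ≤ q := by
    rw [← hqd] at hn
    rcases Nat.lt_or_ge n 3 with h | h
    · interval_cases n <;> simp at hn <;> omega
    · exact Or.inr (hn ▸ (Nat.pow_le_pow_right (by norm_num) h : 2 ^ 3 ≤ 2 ^ n))
  have hp3 : 3 ≤ p := by have := hp.two_le; omega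
  have hr3 : 3 ≤ r := by have := hr.two_le; omega
  obtain ⟨ha3, hwa, hXd⟩ := local_data D hpG P (q * Nat.card (Q : Subgroup G)) (by rw [hG]; ring) hp3
  obtain ⟨hb3, hwb, hYd⟩ := local_data D hrG Q (q * Nat.card (P : Subgroup G)) (by rw [hG]; ring) hr3
  set X := Nat.card {g : G // orderOf g = p}
  set Y := Nat.card {g : G // orderOf g = r}
  have hsum : Nat.card G = 1 + Nat.card (P : Subgroup G) * Nat.card (Q : Subgroup G) + X + Y := by
    haveI := Fintype.ofFinite G
    have he : Nat.card {g : G // orderOf g = 2} = Nat.card (P : Subgroup G) * Nat.card (Q : Subgroup G) := by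
      rw [card_elements D T, zc_of_comm T (sylow_two_comm D T)]
      have h := card_sylow_mul T
      rw [hG, ← hqd] at h
      refine mul_left_cancel₀ (show q ≠ 0 by omega) ?_
      rw [show q - 1 = wn T by omega]
      linear_combination h
    rw [← he]
    simp only [X, Y, Nat.card_eq_fintype_card, Fintype.card_subtype]
    rw [← Finset.card_univ, Finset.card_eq_sum_card_fiberwise (f := fun g : G => orderOf g)
      (t := {1, 2, p, r}) (fun g _ => by
        by_cases hg : g = 1
        · simp [hg]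
        · rcases hset' _ (D.prime_order g hg) (orderOf_dvd_natCard g) with h | h | h <;> simp [h])]
    rw [Finset.sum_insert (by simp [hp.one_lt.ne, hr.one_lt.ne]),
      Finset.sum_insert (by simp [hp2.symm, hr2.symm]), Finset.sum_pair hpr]
    have h1 : (Finset.univ.filter fun g : G => orderOf g = 1) = {1} := by
      ext g; simp
    rw [h1, Finset.card_singleton]
    omega
  rw [hG] at hsum hXd hYd
  have hX' := hXd.imp_right fun h => (⟨h.1, h.2.2.1⟩ :
    2 ≤ wn P ∧ X * wn P = q * Nat.card (Q : Subgroup G) * (Nat.card (P : Subgroup G) - 1))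
  have hY' := hYd.imp_right fun h => (⟨h.1, h.2.2.1⟩ :
    2 ≤ wn Q ∧ Y * wn Q = q * Nat.card (P : Subgroup G) * (Nat.card (Q : Subgroup G) - 1))
  have hcomm : q * Nat.card (P : Subgroup G) * Nat.card (Q : Subgroup G) =
      q * Nat.card (Q : Subgroup G) * Nat.card (P : Subgroup G) := by ring
  obtain ⟨ka, hka⟩ := P.isPGroup'.exists_card_eq
  obtain ⟨kb, hkb⟩ := Q.isPGroup'.exists_card_eq
  rcases shape hq48 ha3 hb3 hwa hwb hX' hY' hsum with
    ⟨hP2, hXe, ⟨hQ2, hYe⟩ | ⟨hQ3, h4, hYe⟩⟩ | ⟨hQ2, hYe, hP3, h4, hXe⟩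
  · have heq := two_case (by omega) (by omega) hXe hYe hsum
    -- the prime `q - 1`
    have hPt : ∀ P' : Sylow p G, wn P' = 2 := fun P' => by
      have h1 := card_sylow_mul P'
      have h2 := card_sylow_mul P
      rw [show Nat.card (P' : Subgroup G) = Nat.card (P : Subgroup G) by
        rw [P'.card_eq_multiplicity, P.card_eq_multiplicity], ← h2, hP2] at h1
      exact mul_left_cancel₀ (Nat.card_pos (α := (P : Subgroup G))).ne'
        (mul_left_cancel₀ (Nat.card_pos (α := Sylow p G)).ne' h1)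
    have hQt : ∀ P' : Sylow r G, wn P' = 2 := fun P' => by
      have h1 := card_sylow_mul P'
      have h2 := card_sylow_mul Q
      rw [show Nat.card (P' : Subgroup G) = Nat.card (Q : Subgroup G) by
        rw [P'.card_eq_multiplicity, Q.card_eq_multiplicity], ← h2, hQ2] at h1
      exact mul_left_cancel₀ (Nat.card_pos (α := (Q : Subgroup G))).ne'
        (mul_left_cancel₀ (Nat.card_pos (α := Sylow r G)).ne' h1)
    have hwG : wn T ∣ Nat.card G := ⟨Nat.card (Sylow 2 G) * q, by rw [← card_sylow_mul T, ← hqd]; ring⟩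
    have hodd : ¬ 2 ∣ wn T := fun h => by
      have := T.dvd_card_of_dvd_card (two_dvd D)
      rw [← hqd] at this
      omega
    rcases (show wn T = p ∨ wn T = r ∨ wn T = p * r by
        have hsq : ∀ t : ℕ, t.Prime → t ∣ wn T → t = p ∨ t = r := fun t ht hd =>
          (hset' t ht (hd.trans hwG)).resolve_left fun e => hodd (e ▸ hd)
        have hsqf : ∀ t : ℕ, t.Prime → ¬ t ^ 2 ∣ wn T := fun t ht hd => by
          by_cases ht2 : t = 2
          · subst ht2; exact hodd ((dvd_pow_self 2 two_ne_zero).trans hd)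
          · exact not_sq_dvd D T ht ht2 hd
        have hsub : (wn T).primeFactors ⊆ {p, r} := fun t ht => by
          rcases hsq t (Nat.prime_of_mem_primeFactors ht) (Nat.dvd_of_mem_primeFactors ht) with h | h <;>
            simp [h]
        have hS : Squarefree (wn T) := Nat.squarefree_iff_prime_squarefree.mpr fun t ht => by
          rw [← pow_two]; exact hsqf t ht
        have hprod := Nat.prod_primeFactors_of_squarefree hS
        by_cases h1 : p ∈ (wn T).primeFactors <;> by_cases h2 : r ∈ (wn T).primeFactors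
        · have : (wn T).primeFactors = {p, r} := Finset.Subset.antisymm hsub (by simp [Finset.insert_subset_iff, h1, h2])
          rw [this, Finset.prod_pair hpr] at hprod
          exact Or.inr (Or.inr hprod.symm)
        · have : (wn T).primeFactors = {p} := Finset.eq_singleton_iff_unique_mem.mpr ⟨h1, fun t ht => by
            have := hsub ht; simp at this; rcases this with h | h
            · exact h
            · exact absurd (h ▸ ht) h2⟩
          rw [this, Finset.prod_singleton] at hprod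
          exact Or.inl hprod.symm
        · have : (wn T).primeFactors = {r} := Finset.eq_singleton_iff_unique_mem.mpr ⟨h2, fun t ht => by
            have := hsub ht; simp at this; rcases this with h | h
            · exact absurd (h ▸ ht) h1
            · exact h⟩
          rw [this, Finset.prod_singleton] at hprod
          exact Or.inr (Or.inl hprod.symm)
        · exfalso
          have : (wn T).primeFactors = ∅ := Finset.eq_empty_of_forall_notMem fun t ht => by
            have := hsub ht; simp at this; rcases this with h | h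
            · exact h1 (h ▸ ht)
            · exact h2 (h ▸ ht)
          rw [this, Finset.prod_empty] at hprod
          exact hw1 hprod.symm) with hw | hw | hw
    · exact branch_two D hset' hpr hp2 hr2 T P Q hpG hrG hG hw hP2 hQ2 heq
        (by rcases hXd with h | h
            · exfalso; nlinarith [Nat.sub_add_cancel (show 1 ≤ Nat.card (P : Subgroup G) by omega)]
            · exact h.2.1)
    · refine branch_two D (fun t ht hd => ?_) hpr.symm hr2 hp2 T Q P hrG hpG (by rw [hG]; ring) hw hQ2 hP2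
        (by rw [← hqd, add_comm]; linarith [heq, mul_comm (Nat.card (P : Subgroup G)) (Nat.card (Q : Subgroup G))])
        (by rcases hYd with h | h
            · exfalso; nlinarith [Nat.sub_add_cancel (show 1 ≤ Nat.card (Q : Subgroup G) by omega)]
            · exact h.2.1)
      rcases hset' t ht hd with h | h | h <;> simp [h]
    · exfalso
      have hc1 := count_in_normalizer D T hr hpr.symm hp2 hr2 hw hPt
      have hc2 := count_in_normalizer D T hp hpr hr2 hp2 (by rw [hw, mul_comm]) hQt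
      classical
      haveI := Fintype.ofFinite (Subgroup.normalizer ((T : Subgroup G) : Set G))
      set N := Subgroup.normalizer ((T : Subgroup G) : Set G)
      have hle : Nat.card {g : N // orderOf g = p} + Nat.card {g : N // orderOf g = r} ≤ Nat.card N := by
        simp only [Nat.card_eq_fintype_card, Fintype.card_subtype]
        rw [← Finset.card_union_of_disjoint (Finset.disjoint_filter.mpr fun g _ h1 h2 => hpr (h1.symm.trans h2))]
        exact Finset.card_le_univ _
      rw [card_normalizer T, hw, ← hqd] at hle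
      rw [← hqd] at hc1 hc2
      obtain ⟨p', rfl⟩ : ∃ p', p = p' + 3 := ⟨p - 3, by omega⟩
      obtain ⟨r', rfl⟩ : ∃ r', r = r' + 3 := ⟨r - 3, by omega⟩
      simp only [show p' + 3 - 1 = p' + 2 from rfl, show r' + 3 - 1 = r' + 2 from rfl] at hc1 hc2
      nlinarith
  · exfalso
    rw [h4] at hXe hYe hsum
    rcases hYd with h | h
    · nlinarith [Nat.sub_add_cancel (show 1 ≤ Nat.card (Q : Subgroup G) by omega)]
    exact branch_three D hr2 hset' Q _ hQ3 h.2.2.2
      (four_case (by omega) (by omega) hXe hYe hsum) hrG ⟨ka, hka⟩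
  · exfalso
    rw [h4] at hXe hYe hsum
    rcases hXd with h | h
    · nlinarith [Nat.sub_add_cancel (show 1 ≤ Nat.card (P : Subgroup G) by omega)]
    refine branch_three D hp2 (fun t ht hd => ?_) P _ hP3 h.2.2.2
      (four_case (by omega) (by omega) hYe hXe (by rw [mul_right_comm, hsum]; ring)) hpG ⟨kb, hkb⟩
    rcases hset' t ht hd with h | h | h <;> simp [h]

end Cfsg.Agent.FourOrbits
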