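import Cfsg.Agent.Lib.FourOrbits.Basic
import Mathlib.GroupTheory.GroupAction.ConjAct
import Mathlib.GroupTheory.Rank

/-!
# Four orbits: Sylow counting
-/

set_option autoImplicit false

namespace Cfsg.Agent.FourOrbits

universe u

variable {G : Type u} [Group G] [Finite G] (D : Data G) {p : ℕ} [Fact p.Prime]

/-- Order of the centre of a Sylow subgroup. -/
noncomputable def zc (P : Sylow p G) : ℕ := Nat.card (Subgroup.center (P : Subgroup G))

/-- Index of a Sylow subgroup in its normalizer. -/
noncomputable def wn (P : Sylow p G) : ℕ :=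
  (P : Subgroup G).relIndex (Subgroup.normalizer ((P : Subgroup G) : Set G))

theorem card_sylow_mul (P : Sylow p G) :
    Nat.card (Sylow p G) * (Nat.card (P : Subgroup G) * wn P) = Nat.card G := by
  have h1 := Subgroup.relIndex_mul_index (Subgroup.le_normalizer (H := (P : Subgroup G)))
  rw [← (P : Subgroup G).card_mul_index, ← h1, P.card_eq_index_normalizer, wn]
  change (Subgroup.normalizer ((P : Subgroup G) : Set G)).index * _ = _
  ring

include D in
theorem cent_eq (hpG : p ∣ Nat.card G) (P : Sylow p G) :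
    ∃ z : G, orderOf z = p ∧ Subgroup.centralizer ({z} : Set G) = (P : Subgroup G) := by
  haveI : Nontrivial (P : Subgroup G) :=
    (Subgroup.nontrivial_iff_ne_bot _).mpr (P.ne_bot_of_dvd_card hpG)
  haveI := P.isPGroup'.center_nontrivial
  obtain ⟨z, hz⟩ := exists_ne (1 : Subgroup.center (P : Subgroup G))
  have hz1 : ((z : (P : Subgroup G)) : G) ≠ 1 := fun e => hz (Subtype.ext (Subtype.ext e))
  have hzp : orderOf ((z : (P : Subgroup G)) : G) = p := by
    obtain ⟨k, hk⟩ := IsPGroup.iff_orderOf.mp P.isPGroup' (z : (P : Subgroup G))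
    rw [← Subgroup.orderOf_coe] at hk
    have hpr := D.prime_order _ hz1
    rw [hk] at hpr ⊢
    rw [hpr.eq_one_of_pow, pow_one]
  refine ⟨_, hzp, P.is_maximal' (cent_pgroup D Fact.out hzp) fun y hy => ?_⟩
  exact Subgroup.mem_centralizer_singleton_iff.mpr
    (congrArg Subtype.val (Subgroup.mem_center_iff.mp z.2 ⟨y, hy⟩))

include D in
theorem card_cent (P : Sylow p G) {g : G} (hg : orderOf g = p) :
    Nat.card (Subgroup.centralizer ({g} : Set G)) = Nat.card (P : Subgroup G) := by
  obtain ⟨z, hz, hzP⟩ := cent_eq D (hg ▸ orderOf_dvd_natCard g) P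
  obtain ⟨φ, rfl⟩ := D.conj_aut z g (hz.trans hg.symm)
  rw [← hzP]
  refine (Nat.card_congr (φ.toEquiv.subtypeEquiv fun y => ?_)).symm
  simp only [Subgroup.mem_centralizer_singleton_iff, MulEquiv.toEquiv_eq_coe, EquivLike.coe_coe,
    ← map_mul, φ.injective.eq_iff]

include D in
/-- The centraliser of an element of order `p`, as a Sylow subgroup. -/
theorem exists_sylow {g : G} (hg : orderOf g = p) :
    ∃ Q : Sylow p G, (Q : Subgroup G) = Subgroup.centralizer ({g} : Set G) := by
  obtain ⟨Q, hQ⟩ := (cent_pgroup D Fact.out hg).exists_le_sylow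
  refine ⟨Q, (Subgroup.eq_of_le_of_card_ge hQ ?_).symm⟩
  rw [card_cent D Q hg]

include D in
theorem sylow_eq (Q : Sylow p G) {g : G} (hg : orderOf g = p)
    (h : ∀ x ∈ (Q : Subgroup G), x * g = g * x) :
    (Q : Subgroup G) = Subgroup.centralizer ({g} : Set G) :=
  (Q.is_maximal' (cent_pgroup D Fact.out hg) fun x hx =>
    Subgroup.mem_centralizer_singleton_iff.mpr (h x hx)).symm

theorem zc_eq (P Q : Sylow p G) : zc Q = zc P := by
  obtain ⟨c, rfl⟩ := MulAction.exists_smul_eq G P Q
  let e := Sylow.equiv P (c • P)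
  refine (Nat.card_congr (e.toEquiv.subtypeEquiv fun y => ?_)).symm
  simp only [Subgroup.mem_center_iff, MulEquiv.toEquiv_eq_coe, EquivLike.coe_coe]
  refine ⟨fun h x => ?_, fun h x => ?_⟩
  · obtain ⟨x', rfl⟩ := e.surjective x
    rw [← map_mul, ← map_mul, h x']
  · exact e.injective (by rw [map_mul, map_mul, h (e x)])

include D in
theorem card_elements (P : Sylow p G) :
    Nat.card {g : G // orderOf g = p} = Nat.card (Sylow p G) * (zc P - 1) := by
  have hp : p.Prime := Fact.out
  let f : (Σ Q : Sylow p G, {x : Subgroup.center (Q : Subgroup G) // x ≠ 1}) →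
      {g : G // orderOf g = p} := fun s => ⟨(((s.2.1 : (s.1 : Subgroup G))) : G), by
    obtain ⟨Q, x, hx⟩ := s
    have hne : ((x : (Q : Subgroup G)) : G) ≠ 1 := fun e => hx (Subtype.ext (Subtype.ext e))
    obtain ⟨k, hk⟩ := IsPGroup.iff_orderOf.mp Q.isPGroup' (x : (Q : Subgroup G))
    rw [← Subgroup.orderOf_coe] at hk
    have hpr := D.prime_order _ hne
    rw [hk] at hpr
    rw [hk, hpr.eq_one_of_pow, pow_one]⟩
  have hf : Function.Bijective f := by
    refine ⟨?_, ?_⟩
    · intro s s' hss
      have hs := (f s).2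
      obtain ⟨Q, x, hx⟩ := s
      obtain ⟨Q', x', hx'⟩ := s'
      have he : ((x : (Q : Subgroup G)) : G) = ((x' : (Q' : Subgroup G)) : G) := congrArg Subtype.val hss
      have e1 := sylow_eq D Q hs fun y hy =>
        congrArg Subtype.val (Subgroup.mem_center_iff.mp x.2 ⟨y, hy⟩)
      have e2 := sylow_eq D Q' hs fun y hy => by
        show y * ((x : (Q : Subgroup G)) : G) = ((x : (Q : Subgroup G)) : G) * y
        rw [he]
        exact congrArg Subtype.val (Subgroup.mem_center_iff.mp x'.2 ⟨y, hy⟩)
      obtain rfl : Q = Q' := Sylow.ext (e1.trans e2.symm)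
      obtain rfl : x = x' := Subtype.ext (Subtype.ext he)
      rfl
    · rintro ⟨g, hg⟩
      obtain ⟨Q, hQ⟩ := exists_sylow D hg
      refine ⟨⟨Q, ⟨⟨⟨g, ?_⟩, ?_⟩, ?_⟩⟩, rfl⟩
      · rw [hQ]; exact Subgroup.mem_centralizer_singleton_iff.mpr rfl
      · refine Subgroup.mem_center_iff.mpr fun y => Subtype.ext ?_
        exact Subgroup.mem_centralizer_singleton_iff.mp (hQ ▸ y.2)
      · intro e
        have e' : g = 1 := congrArg (fun z : Subgroup.center (Q : Subgroup G) =>
          ((z : (Q : Subgroup G)) : G)) e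
        rw [e', orderOf_one] at hg
        exact hp.one_lt.ne hg
  have : Fintype (Sylow p G) := Fintype.ofFinite _
  rw [← Nat.card_congr (Equiv.ofBijective f hf), Nat.card_sigma, Nat.card_eq_fintype_card (α := Sylow p G),
    ← Finset.card_univ]
  refine Finset.sum_const_nat fun Q _ => ?_
  classical
  haveI := Fintype.ofFinite (Subgroup.center (Q : Subgroup G))
  rw [Nat.card_eq_fintype_card, Fintype.card_subtype_compl, Fintype.card_subtype_eq,
    ← Nat.card_eq_fintype_card, ← zc_eq P Q, zc]

theorem card_fibre (g : G) :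
    Nat.card {x : G // ConjClasses.mk x = ConjClasses.mk g} *
      Nat.card (Subgroup.centralizer ({g} : Set G)) = Nat.card G := by
  have h1 : Nat.card {x : G // ConjClasses.mk x = ConjClasses.mk g} =
      (MulAction.orbit (ConjAct G) g).ncard := by
    rw [ConjAct.orbit_eq_carrier_conjClasses, ← Nat.card_coe_set_eq]
    exact Nat.card_congr (Equiv.subtypeEquivRight fun x => ConjClasses.mem_carrier_iff_mk_eq.symm)
  rw [h1, ← MulAction.index_stabilizer, Subgroup.nat_card_centralizer_nat_card_stabilizer, mul_comm,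
    Subgroup.card_mul_index]
  rfl

include D in
/-- The classes of elements of order `p`. -/
theorem classes (hpG : p ∣ Nat.card G) (P : Sylow p G) :
    ∃ k : ℕ, zc P - 1 = k * wn P ∧
      ((∀ x y : G, orderOf x = p → orderOf y = p → IsConj x y) → k = 1) := by
  classical
  haveI := Fintype.ofFinite G
  set E : Finset G := Finset.univ.filter fun g => orderOf g = p with hE
  set K := E.image ConjClasses.mk with hK
  refine ⟨K.card, ?_, fun h => ?_⟩
  · have h1 : E.card * Nat.card (P : Subgroup G) = K.card * Nat.card G := by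
      rw [Finset.card_eq_sum_card_image ConjClasses.mk E, Finset.sum_mul]
      refine Finset.sum_const_nat fun c hc => ?_
      obtain ⟨g, hg, rfl⟩ := Finset.mem_image.mp hc
      have hgp : orderOf g = p := (Finset.mem_filter.mp hg).2
      rw [← card_cent D P hgp, ← card_fibre g]
      congr 1
      rw [Nat.card_eq_fintype_card, Fintype.card_subtype]
      refine congrArg _ (Finset.ext fun x => ?_)
      simp only [hE, Finset.mem_filter, Finset.mem_univ, true_and]
      refine ⟨fun h => h.2, fun h => ⟨?_, h⟩⟩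
      obtain ⟨c, hc⟩ := isConj_iff.mp (ConjClasses.mk_eq_mk_iff_isConj.mp h)
      rw [← hgp, ← hc, ← MulAut.conj_apply, MulEquiv.orderOf_eq]
    have h2 : E.card = Nat.card (Sylow p G) * (zc P - 1) := by
      rw [← card_elements D P, hE, Nat.card_eq_fintype_card, Fintype.card_subtype]
    rw [h2, ← card_sylow_mul P] at h1
    have hn : 0 < Nat.card (Sylow p G) := Nat.card_pos
    have ha : 0 < Nat.card (P : Subgroup G) := Nat.card_pos
    refine mul_left_cancel₀ (mul_pos hn ha).ne' ?_
    linear_combination h1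
  · obtain ⟨g, hg⟩ := exists_prime_orderOf_dvd_card' p hpG
    refine Finset.card_eq_one.mpr ⟨ConjClasses.mk g, Finset.eq_singleton_iff_unique_mem.mpr
      ⟨Finset.mem_image_of_mem _ (Finset.mem_filter.mpr ⟨Finset.mem_univ _, hg⟩), fun c hc => ?_⟩⟩
    obtain ⟨x, hx, rfl⟩ := Finset.mem_image.mp hc
    exact ConjClasses.mk_eq_mk_iff_isConj.mpr (h x g (Finset.mem_filter.mp hx).2 hg)

theorem zc_dvd (P : Sylow p G) : zc P ≤ Nat.card (P : Subgroup G) :=
  Subgroup.card_le_card_group _

theorem zc_of_comm (P : Sylow p G) (h : IsMulCommutative (P : Subgroup G)) :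
    zc P = Nat.card (P : Subgroup G) := by
  rw [zc, show Subgroup.center (P : Subgroup G) = ⊤ from eq_top_iff.mpr fun x _ =>
    Subgroup.mem_center_iff.mpr fun y => mul_comm' y x, Subgroup.card_top]

theorem zc_of_not_comm (P : Sylow p G) (h : ¬ IsMulCommutative (P : Subgroup G)) :
    zc P * p ^ 2 ≤ Nat.card (P : Subgroup G) := by
  have hp : p.Prime := Fact.out
  obtain ⟨k, hk⟩ := P.isPGroup'.index (Subgroup.center (P : Subgroup G))
  rw [← (Subgroup.center (P : Subgroup G)).card_mul_index, hk, zc]
  refine Nat.mul_le_mul_left _ (Nat.pow_le_pow_right hp.pos ?_)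
  by_contra hk2
  refine h ⟨⟨fun a b => ?_⟩⟩
  haveI : IsCyclic ((P : Subgroup G) ⧸ Subgroup.center (P : Subgroup G)) := by
    rw [Subgroup.index_eq_card] at hk
    rcases (by omega : k = 0 ∨ k = 1) with rfl | rfl
    · haveI := (Nat.card_eq_one_iff_unique.mp (hk.trans (pow_zero p))).1
      infer_instance
    · exact isCyclic_of_prime_card (hk.trans (pow_one p))
  exact commutative_of_cyclic_center_quotient (QuotientGroup.mk' (Subgroup.center (P : Subgroup G)))
    (by simp) a b

include D in
theorem wn_ne_one (hpG : p ∣ Nat.card G) (P : Sylow p G) (h : IsMulCommutative (P : Subgroup G)) :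
    wn P ≠ 1 := by
  intro h1
  have hN : Subgroup.normalizer ((P : Subgroup G) : Set G) = (P : Subgroup G) :=
    le_antisymm (Subgroup.relIndex_eq_one.mp h1) Subgroup.le_normalizer
  have hle : Subgroup.normalizer ((P : Subgroup G) : Set G) ≤
      Subgroup.centralizer ((P : Subgroup G) : Set G) := by
    rw [hN]; exact (P : Subgroup G).le_centralizer
  have hker : commutator G ≤ (MonoidHom.transferSylow P hle).ker := by
    rw [commutator_def, Subgroup.commutator_le]
    intro x _ y _
    rw [MonoidHom.mem_ker, map_commutatorElement, commutatorElement_eq_one_iff_mul_comm]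
    exact mul_comm' _ _
  rw [commutator_eq_top D, top_le_iff] at hker
  refine MonoidHom.not_dvd_card_ker_transferSylow P hle ?_
  rw [hker, Subgroup.card_top]
  exact hpG

end Cfsg.Agent.FourOrbits
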